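import Cfsg.Agent.Lib.Perm.Alt2520.Pair
import Cfsg.Agent.Lib.Recog.AltPresentation

/-!
# A simple group of order 2520: the generators of Moore

From two commuting axes the five generators of Moore's presentation of the alternating group of degree seven.
-/

set_option autoImplicit false

namespace CfsgLib.Perm.Alt2520

open Subgroup

theorem inv_of_two {G : Type*} [Group G] {u : G} (hu : orderOf u = 2) : u⁻¹ = u :=
  inv_eq_of_mul_eq_one_right (mul_self_of_two hu)

theorem cube_of_three {G : Type*} [Group G] {u : G} (hu : orderOf u = 3) : u * u * u = 1 := by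
  have h : u ^ 3 = 1 := by rw [← hu, pow_orderOf_eq_one]
  rwa [pow_succ, pow_two] at h

variable {G : Type*} [Group G] [Finite G] [IsSimpleGroup G] (H : Hyp G)

include H

theorem Hyp.exists_image_inV {z g v : G} (hv : InV z v) (hg : g * z * g⁻¹ = z⁻¹) :
    InV z (g * v * g⁻¹) := by
  have _ := H
  refine ⟨(orderOf_conj_eq _ _).trans hv.1, ?_⟩
  have h1 := conj_comm g hv.2
  rw [hg] at h1
  exact (Commute.inv_right_iff.1 h1).eq

set_option maxHeartbeats 1000000 in
/-- Five elements satisfying the relations of Moore. -/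
theorem Hyp.exists_rels : ∃ x0 x1 x2 x3 x4 : G, x0 ≠ 1 ∧
    x0 * x0 * x0 = 1 ∧ x1 * x1 = 1 ∧ x2 * x2 = 1 ∧ x3 * x3 = 1 ∧ x4 * x4 = 1 ∧
    x0 * x1 * (x0 * x1) * (x0 * x1) = 1 ∧ x1 * x2 * (x1 * x2) * (x1 * x2) = 1 ∧
    x2 * x3 * (x2 * x3) * (x2 * x3) = 1 ∧ x3 * x4 * (x3 * x4) * (x3 * x4) = 1 ∧
    x0 * x2 * (x0 * x2) = 1 ∧ x0 * x3 * (x0 * x3) = 1 ∧ x0 * x4 * (x0 * x4) = 1 ∧
    x1 * x3 * (x1 * x3) = 1 ∧ x1 * x4 * (x1 * x4) = 1 ∧ x2 * x4 * (x2 * x4) = 1 := by
  obtain ⟨x, y, s, hP⟩ := H.exists_pair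
  have hs2 := mul_self_of_two hP.hs
  have hsi := inv_of_two hP.hs
  have hxne : x ∉ zpowers y := fun h => hP.hne (zpowers_eq_of_three hP.hy.1 hP.hx.1 h ▸ mem_zpowers y)
  have hsys : s * y * s = y⁻¹ := by
    conv_lhs => rw [mul_assoc]
    conv_rhs => rw [← hP.hsy]
    rw [hsi, mul_assoc]
  obtain ⟨t, ht⟩ : ∃ t, t = s * y := ⟨_, rfl⟩
  have ht2 : t * t = 1 := by
    rw [ht, show s * y * (s * y) = s * y * s * y by group, hsys, inv_mul_cancel]
  have hto : orderOf t = 2 := by
    refine orderOf_eq_prime (by rw [pow_two, ht2]) fun h => ?_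
    have : y = s := by rw [← hsi]; exact eq_inv_of_mul_eq_one_right (ht ▸ h)
    have h3 := hP.hy.1
    rw [this, hP.hs] at h3
    omega
  have hti := inv_of_two hto
  have htx : t * x * t⁻¹ = x⁻¹ := by
    calc t * x * t⁻¹ = s * (y * x * y⁻¹) * s⁻¹ := by rw [ht]; group
      _ = s * x * s⁻¹ := by rw [← hP.hxy, mul_inv_cancel_right]
      _ = x⁻¹ := hP.hsx
  have hty : t * y * t⁻¹ = y⁻¹ := by
    calc t * y * t⁻¹ = s * y * s⁻¹ := by rw [ht]; group
      _ = y⁻¹ := hP.hsy
  -- the involutions of the two four-groups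
  obtain ⟨v3, hv3, hsv3⟩ := H.exists_inV_comm hP.hx hP.hs hP.hsx
  obtain ⟨v4, hv4, htv4⟩ := H.exists_inV_comm hP.hx hto htx
  obtain ⟨u1, hu1, hsu1⟩ := H.exists_inV_comm hP.hy hP.hs hP.hsy
  have hv34 : v3 ≠ v4 := by
    intro h
    subst h
    refine hP.hne (H.mem_of_comm hP.hx hv3 hP.hy.1 ?_)
    have h1 : y = s * t := by rw [ht, ← mul_assoc, hs2, one_mul]
    rw [h1]
    exact (Commute.mul_right (hsv3 : Commute s v3).symm (htv4 : Commute t v3).symm).eq
  have htu1 : t * u1 = u1 * t := by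
    rw [ht]; exact (Commute.mul_left hsu1 (hu1.2 : Commute u1 y).symm).eq
  obtain ⟨x2, hx2def⟩ : ∃ x2, x2 = t * v4 := ⟨_, rfl⟩
  have hv4i := inv_of_two hv4.1
  have hv3i := inv_of_two hv3.1
  have hu1i := inv_of_two hu1.1
  have htv4' : Commute t v4 := htv4
  have hx22 : x2 * x2 = 1 := by
    rw [hx2def, show t * v4 * (t * v4) = t * (v4 * t) * v4 by group, ← htv4,
      show t * (t * v4) * v4 = t * t * (v4 * v4) by group, ht2, mul_self_of_two hv4.1, one_mul]
  -- conjugating `t` by `v3`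
  have hw3 : InV x (t * v3 * t⁻¹) := H.exists_image_inV hv3 htx
  have hv3t : v3 * t * v3 = t * v4 := by
    have hne1 : t * v3 * t⁻¹ ≠ v3 := fun h =>
      hv34 (H.inV_unique hP.hx htx hv3 hv4 (mul_inv_eq_iff_eq_mul.1 h) htv4)
    have hne2 : t * v3 * t⁻¹ ≠ v4 := fun h => hv34 ((MulAut.conj t).injective
      (h.trans (show v4 = t * v4 * t⁻¹ by rw [htv4, mul_inv_cancel_right])))
    have h3 : t * v3 * t⁻¹ = v3 * v4 :=
      ((H.inV_cases hP.hx hv3 hv4 hv34 hw3).resolve_left hne1).resolve_left hne2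
    rw [hti] at h3
    calc v3 * t * v3 = (t * t) * v3 * t * v3 := by rw [ht2, one_mul]
      _ = t * (t * v3 * t) * v3 := by group
      _ = t * (v3 * v4) * v3 := by rw [h3]
      _ = t * (v3 * v3 * v4) := by
        rw [mul_assoc t, mul_assoc v3 v4 v3, H.inV_comm hP.hx hv4 hv3, ← mul_assoc v3]
      _ = t * v4 := by rw [mul_self_of_two hv3.1, one_mul]
  have hinvx : ∀ g : G, g * g = 1 → g * x * g⁻¹ = x⁻¹ → x * g * (x * g) = 1 := fun g hg hgx => by
    rw [show g⁻¹ = g from inv_eq_of_mul_eq_one_right hg] at hgx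
    rw [show x * g * (x * g) = x * (g * x * g) by group, hgx, mul_inv_cancel]
  have hcomm2 : ∀ g h : G, g * g = 1 → h * h = 1 → g * h = h * g → g * h * (g * h) = 1 :=
    fun g h hg hh hgh => by
      rw [show g * h * (g * h) = g * (h * g) * h by group, ← hgh,
        show g * (g * h) * h = g * g * (h * h) by group, hg, hh, one_mul]
  have hx2x : x2 * x * x2⁻¹ = x⁻¹ := by
    calc x2 * x * x2⁻¹ = t * (v4 * x * v4⁻¹) * t⁻¹ := by rw [hx2def]; group
      _ = t * x * t⁻¹ := by rw [hv4.2, mul_inv_cancel_right]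
      _ = x⁻¹ := htx
  have hu12 := mul_self_of_two hu1.1
  refine ⟨x, u1, x2, s, t, hP.hx.ne_one, cube_of_three hP.hx.1, hu12, hx22, hs2, ht2, ?_, ?_, ?_, ?_,
    hinvx _ hx22 hx2x, hinvx _ hs2 hP.hsx, hinvx _ ht2 htx, hcomm2 _ _ hu12 hs2 hsu1.symm,
    hcomm2 _ _ hu12 ht2 htu1.symm, hcomm2 _ _ hx22 ht2 ?_⟩
  · -- the first two
    set p := x * u1 * x⁻¹ with hp
    set q := x * p * x⁻¹ with hq
    have hxy' : x * y * x⁻¹ = y := by rw [hP.hxy, mul_inv_cancel_right]
    have hconjV : ∀ v, InV y v → InV y (x * v * x⁻¹) := fun v hv =>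
      ⟨(orderOf_conj_eq _ _).trans hv.1, by
        have h1 := conj_comm x hv.2
        rwa [hxy'] at h1⟩
    have hpV : InV y p := hconjV u1 hu1
    have hqV : InV y q := hconjV p hpV
    have hne1 : p ≠ u1 := fun h => hxne (H.mem_of_comm hP.hy hu1 hP.hx.1 (mul_inv_eq_iff_eq_mul.1 h).symm)
    have hne2 : q ≠ p := fun h => hne1 ((MulAut.conj x).injective h)
    have hne3 : q ≠ u1 := fun h => hne1 (by
      calc p = (x * x * x)⁻¹ * p * (x * x * x) := by rw [cube_of_three hP.hx.1]; group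
        _ = (x * x * x)⁻¹ * (x * u1 * x⁻¹) * (x * x * x) := by rw [hp]
        _ = (x * x)⁻¹ * u1 * (x * x) := by group
        _ = (x * x)⁻¹ * q * (x * x) := by rw [h]
        _ = u1 := by rw [hq, hp]; group)
    have hq' : q = u1 * p := ((H.inV_cases hP.hy hu1 hpV hne1.symm hqV).resolve_left hne3).resolve_left hne2
    calc x * u1 * (x * u1) * (x * u1) = p * q * (x * x * x) * u1 := by rw [hq, hp]; group
      _ = p * (u1 * p) * u1 := by rw [cube_of_three hP.hx.1, mul_one, hq']
      _ = p * (p * u1) * u1 := by rw [H.inV_comm hP.hy hu1 hpV]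
      _ = (p * p) * (u1 * u1) := by group
      _ = 1 := by rw [mul_self_of_two hpV.1, hu12, one_mul]
  · -- the middle pair
    obtain ⟨-, w, hw, htw, -⟩ := H.exists_core_normal hto
    have hwA : Axial w := ⟨hw, t, hto, htw⟩
    have htV : InV w t := ⟨hto, htw⟩
    have hsq : ∀ z : G, orderOf z = 3 → z⁻¹ ≠ z := fun z hz e => by
      rw [inv_eq_iff_mul_eq_one, ← pow_two] at e
      have := Nat.le_of_dvd (by norm_num) (orderOf_dvd_of_pow_eq_one e)
      omega
    have hnot : ∀ (z u : G), orderOf z = 3 → InV z u → t * z * t⁻¹ = z⁻¹ → u * w ≠ w * u := by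
      intro z u hz hu htz h
      have hmem := H.mem_core hu.1 hz hw hu.2 h
      obtain ⟨i, hi⟩ := mem_zpowers_iff.1 hmem
      have : t * z = z * t := by rw [← hi]; exact (Commute.zpow_right htw i).eq
      rw [this, mul_inv_cancel_right] at htz
      exact hsq z hz htz.symm
    have hflip : ∀ u, t * u = u * t → u * w ≠ w * u → u * w * u⁻¹ = w⁻¹ := by
      intro u htu hne
      have hmem : u * w * u⁻¹ ∈ zpowers w := by
        refine H.mem_core hto ((orderOf_conj_eq u w).trans hw) hw ?_ htw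
        have h1 := conj_comm u htw
        rwa [show u * t * u⁻¹ = t by rw [← htu, mul_inv_cancel_right]] at h1
      rcases three_cases hw hmem with h | h | h
      · exact absurd (conj_eq_one_iff.1 h) hwA.ne_one
      · exact absurd (mul_inv_eq_iff_eq_mul.1 h) hne
      · exact h
    have hu1w := hflip u1 htu1 (hnot y u1 hP.hy.1 hu1 hty)
    have hv4w := hflip v4 htv4 (hnot x v4 hP.hx.1 hv4 htx)
    have htx2 : t * x2 = x2 * t := by rw [hx2def]; exact ((Commute.refl t).mul_right htv4).eq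
    have hqt : u1 * x2 * t = t * (u1 * x2) := (Commute.mul_left htu1.symm htx2.symm).eq
    have hqw : u1 * x2 * w = w * (u1 * x2) := by
      refine mul_inv_eq_iff_eq_mul.1 ?_
      calc u1 * x2 * w * (u1 * x2)⁻¹ = u1 * (t * (v4 * w * v4⁻¹) * t⁻¹) * u1⁻¹ := by rw [hx2def]; group
        _ = u1 * w⁻¹ * u1⁻¹ := by rw [hv4w, (Commute.inv_right htw).eq, mul_inv_cancel_right]
        _ = (u1 * w * u1⁻¹)⁻¹ := by group
        _ = w := by rw [hu1w, inv_inv]
    obtain ⟨i, v, hv, he⟩ := H.decompose hwA htV hqt hqw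
    have hw3 : w ^ 3 = 1 := by rw [← hw, pow_orderOf_eq_one]
    set c := w ^ i with hc
    have hc3 : c * c * c = 1 := by
      rw [hc, ← pow_add, ← pow_add, show i + i + i = 3 * i by ring, pow_mul, hw3, one_pow]
    rcases hv with rfl | hv
    · rw [he, mul_one]; exact hc3
    exfalso
    have hx2e : x2 = u1 * c * v := by rw [mul_assoc, ← he, ← mul_assoc, hu12, one_mul]
    have hu1c : u1 * c * u1 = c⁻¹ := by
      have h1 := conj_pow (i := i) (a := u1) (b := w)
      rw [hu1w, inv_pow, hu1i] at h1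
      exact h1.symm
    by_cases hvt : v = t
    · -- the conjugating power
      subst v
      have hct : c * t = t * c := (Commute.pow_right htw i).symm.eq
      have hv4e : v4 = u1 * c := by
        calc v4 = (t * t) * v4 := by rw [ht2, one_mul]
          _ = t * x2 := by rw [hx2def, mul_assoc]
          _ = x2 * t := htx2
          _ = u1 * c * (t * t) := by rw [hx2e, mul_assoc (u1 * c)]
          _ = u1 * c := by rw [ht2, mul_one]
      have hv4c : v4 = c * u1 * c⁻¹ := by
        have hcc : c⁻¹ * c⁻¹ = c := by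
          rw [← mul_inv_rev, eq_inv_of_mul_eq_one_left hc3, inv_inv]
        calc v4 = u1 * c := hv4e
          _ = u1 * (c⁻¹ * c⁻¹) := by rw [hcc]
          _ = u1 * (u1 * c * u1) * c⁻¹ := by rw [hu1c, mul_assoc]
          _ = (u1 * u1) * (c * u1 * c⁻¹) := by group
          _ = c * u1 * c⁻¹ := by rw [hu12, one_mul]
      have hcy : c * y * c⁻¹ ∈ zpowers x := by
        refine H.mem_core hv4.1 ((orderOf_conj_eq c y).trans hP.hy.1) hP.hx.1 ?_ hv4.2
        rw [hv4c]
        exact conj_comm c hu1.2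
      have hxc : x ∈ zpowers (c * y * c⁻¹) :=
        zpowers_eq_of_three hP.hx.1 ((orderOf_conj_eq c y).trans hP.hy.1) hcy ▸ mem_zpowers x
      obtain ⟨j, hj⟩ := mem_zpowers_iff.1 hxc
      have hyc : y ∈ zpowers (c⁻¹ * x * c) := by
        obtain ⟨k, hk⟩ := mem_zpowers_iff.1 hcy
        refine mem_zpowers_iff.2 ⟨k, ?_⟩
        have h1 := conj_zpow (i := k) (a := c⁻¹) (b := x)
        rw [inv_inv] at h1
        rw [h1, hk]; group
      set z := c * x * c⁻¹ with hz
      have hzx : z * x = x * z := by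
        rw [← hj]
        exact (Commute.zpow_right (conj_comm c hP.hxy : Commute z (c * y * c⁻¹)) j).eq
      have hc2 : c * c = c⁻¹ := eq_inv_of_mul_eq_one_left hc3
      have hzy : z * y = y * z := by
        have h1 : Commute (c⁻¹ * x * c⁻¹⁻¹) (c⁻¹ * y * c⁻¹⁻¹) := conj_comm c⁻¹ hP.hxy
        rw [inv_inv] at h1
        obtain ⟨k, hk⟩ := mem_zpowers_iff.1 hyc
        have h2 : Commute y (c⁻¹ * y * c) := hk ▸ h1.zpow_left k
        have h4 : z = (c⁻¹ * y * c) ^ j := by
          have h5 := conj_zpow (i := j) (a := c) (b := c * y * c⁻¹)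
          rw [hj] at h5
          calc z = (c * (c * y * c⁻¹) * c⁻¹) ^ j := h5.symm
            _ = (c * c * y * (c * c)⁻¹) ^ j := by group
            _ = _ := by rw [hc2, inv_inv]
        rw [h4]
        exact (h2.zpow_right j).symm.eq
      have hfin : c * x * c⁻¹ ∈ zpowers x → False := by
        intro hzm
        have h1 := zpowers_eq_of_three hP.hx.1 ((orderOf_conj_eq c x).trans hP.hx.1) hzm
        obtain ⟨k, hk⟩ := mem_zpowers_iff.1 (h1.symm ▸ hcy : c * y * c⁻¹ ∈ zpowers (c * x * c⁻¹))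
        refine hP.hne (mem_zpowers_iff.2 ⟨k, ?_⟩)
        rw [conj_zpow] at hk
        exact (MulAut.conj c).injective hk
      rcases hP.line c hzx hzy with h | h
      · exact hfin h
      · apply hfin
        obtain ⟨k, hk⟩ := mem_zpowers_iff.1 h
        have h5 : c⁻¹ * x * c ∈ zpowers x := by
          have h6 : c * (c * x * c⁻¹) * c⁻¹ = (c * y * c⁻¹) ^ k := by rw [conj_zpow, hk]
          have h7 : c⁻¹ * x * c = c * (c * x * c⁻¹) * c⁻¹ := by
            calc c⁻¹ * x * c = (c * c) * x * (c * c)⁻¹ := by rw [hc2, inv_inv]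
              _ = _ := by group
          rw [h7, h6]
          exact zpow_mem hcy k
        have hn := mem_normalizer_zpowers (g := c⁻¹) (w := x) (by rwa [inv_inv])
        have hn2 := inv_mem hn
        rw [inv_inv] at hn2
        exact (mem_normalizer_iff.1 hn2 x).1 (mem_zpowers x)
    · -- the moved involution
      have hv' : InV w (u1 * v * u1⁻¹) := H.exists_image_inV hv hu1w
      have hne' : u1 * v * u1⁻¹ ≠ v := fun h =>
        hvt (H.inV_unique hwA hu1w htV hv htu1.symm (mul_inv_eq_iff_eq_mul.1 h)).symm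
      have hcv : ∀ z, InV w z → c * z = z * c := fun z hz => ((Commute.pow_right (hz.2 : Commute z w) i).symm).eq
      refine hne' ?_
      have h1 : x2 * x2 = 1 := hx22
      rw [hx2e] at h1
      have h2 : u1 * v * u1⁻¹ * v = 1 := by
        calc u1 * v * u1⁻¹ * v = c⁻¹ * (c * (u1 * v * u1⁻¹)) * v := by group
          _ = c⁻¹ * (u1 * v * u1⁻¹ * c) * v := by rw [hcv _ hv']
          _ = (u1 * c * u1) * (u1 * v * u1⁻¹ * c) * v := by rw [hu1c]
          _ = u1 * c * (u1 * u1) * v * u1⁻¹ * c * v := by group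
          _ = u1 * c * v * (u1 * c * v) := by rw [hu12, hu1i]; group
          _ = 1 := h1
      rw [eq_inv_of_mul_eq_one_left h2, inv_of_two hv.1]
  · -- the third
    have h1 : t * s = y⁻¹ := by rw [ht, hsys]
    have h2 : x2 * s = v3 * y⁻¹ * v3 := by
      calc x2 * s = v3 * t * v3 * s := by rw [hx2def, hv3t]
        _ = v3 * t * (s * v3) := by rw [hsv3, mul_assoc]
        _ = v3 * (t * s) * v3 := by group
        _ = _ := by rw [h1]
    rw [h2]
    have hy3 : y⁻¹ * y⁻¹ * y⁻¹ = 1 := by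
      rw [← mul_inv_rev, ← mul_inv_rev, ← mul_assoc, cube_of_three hP.hy.1, inv_one]
    calc v3 * y⁻¹ * v3 * (v3 * y⁻¹ * v3) * (v3 * y⁻¹ * v3)
        = v3 * y⁻¹ * (v3 * v3) * y⁻¹ * (v3 * v3) * y⁻¹ * v3 := by group
      _ = v3 * (y⁻¹ * y⁻¹ * y⁻¹) * v3 := by rw [mul_self_of_two hv3.1]; group
      _ = 1 := by rw [hy3, mul_one, mul_self_of_two hv3.1]
  · -- the last
    have h1 : s * t = y := by rw [ht, ← mul_assoc, hs2, one_mul]
    rw [h1]
    exact cube_of_three hP.hy.1
  · rw [hx2def]; exact ((Commute.refl t).mul_right htv4).eq.symm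

/-- The presented group of Moore maps onto the group. -/
theorem Hyp.false : False := by
  obtain ⟨x0, x1, x2, x3, x4, hne, c0, c1, c2, c3, c4, b01, b12, b23, b34, f02, f03, f04, f13, f14,
    f24⟩ := H.exists_rels
  let g : Fin 5 → G := ![x0, x1, x2, x3, x4]
  set rels : Set (FreeGroup (Fin (4 + 1))) :=
      {g : FreeGroup (Fin (4 + 1)) | ∃ i : Fin (4 + 1), i.val = 0 ∧ g = FreeGroup.of i ^ 3} ∪
       {g | ∃ i : Fin (4 + 1), 1 ≤ i.val ∧ g = FreeGroup.of i ^ 2} ∪
       {g | ∃ i j : Fin (4 + 1), j.val = i.val + 1 ∧ g = (FreeGroup.of i * FreeGroup.of j) ^ 3} ∪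
       {g | ∃ i j : Fin (4 + 1), i.val + 1 < j.val ∧ g = (FreeGroup.of i * FreeGroup.of j) ^ 2} with hrels
  obtain ⟨e⟩ := CfsgLib.Recog.AltPresentation.nonempty_mulEquiv 4 rels hrels
  have hrel : ∀ r ∈ rels, FreeGroup.lift g r = 1 := by
    rw [hrels]
    rintro r (((⟨i, hi, rfl⟩ | ⟨i, hi, rfl⟩) | ⟨i, j, hij, rfl⟩) | ⟨i, j, hij, rfl⟩) <;>
      simp only [map_pow, map_mul, FreeGroup.lift_apply_of, pow_succ, pow_zero, one_mul]
    · obtain rfl : i = 0 := Fin.ext hi
      exact c0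
    · fin_cases i <;> first | (simp at hi; done) | assumption
    · fin_cases i <;> fin_cases j <;> first | (simp at hij; done) | assumption
    · fin_cases i <;> fin_cases j <;> first | (simp at hij; done) | assumption
  let f : PresentedGroup rels →* G := PresentedGroup.toGroup hrel
  have hf0 : f (PresentedGroup.of 0) = x0 := PresentedGroup.toGroup.of hrel
  have hsimple : IsSimpleGroup (PresentedGroup rels) := by
    have h7 : IsSimpleGroup (alternatingGroup (Fin (4 + 3))) :=
      alternatingGroup.isSimpleGroup (by simp)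
    have : Nontrivial (PresentedGroup rels) := e.toEquiv.nontrivial
    exact IsSimpleGroup.isSimpleGroup_of_surjective e.symm.toMonoidHom e.symm.surjective
  have hinj : Function.Injective f := by
    rw [← MonoidHom.ker_eq_bot_iff]
    refine ((MonoidHom.normal_ker f).eq_bot_or_eq_top).resolve_right fun h => hne ?_
    rw [← hf0]
    exact MonoidHom.mem_ker.1 (h ▸ mem_top _)
  refine H.noIso ⟨((MulEquiv.ofBijective (f.comp e.symm.toMonoidHom) ?_).symm)⟩
  refine (Nat.bijective_iff_injective_and_card _).2 ⟨hinj.comp e.symm.injective, ?_⟩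
  have h7 := two_mul_nat_card_alternatingGroup (α := Fin (4 + 3))
  rw [Nat.card_perm, Nat.card_fin] at h7
  have h7' : (4 + 3 : ℕ).factorial = 5040 := rfl
  rw [H.card]
  omega

end CfsgLib.Perm.Alt2520
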