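import Cfsg.Agent.Lib.Perm.Alt2520.Core

/-!
# A simple group of order 2520: the axes

For an element `x` of order three centralized by an involution the normalizer of `<x>` has order `72`, and the
involutions centralizing `x` form, with `1`, a four-group.
-/

set_option autoImplicit false

namespace CfsgLib.Perm.Alt2520

open Subgroup

/-- Two involutions centralizing `x` with their product, and an involution inverting `x` that fixes
the first and moves the second to the product. -/
structure Frame {G : Type*} [Group G] (x c a b : G) : Prop where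
  hc : orderOf c = 2
  ha : orderOf a = 2
  hb : orderOf b = 2
  hne : c ≠ a
  hca : c * a = a * c
  hcx : c * x = x * c
  hax : a * x = x * a
  hbc : b * c = c * b
  hbx : b * x * b⁻¹ = x⁻¹
  hba : b * a * b⁻¹ = c * a

/-- The involutions centralizing `x`. -/
def InV {G : Type*} [Group G] (x u : G) : Prop := orderOf u = 2 ∧ u * x = x * u

theorem mul_self_of_two {G : Type*} [Group G] {u : G} (hu : orderOf u = 2) : u * u = 1 := by
  rw [← pow_two, ← hu, pow_orderOf_eq_one]

theorem ne_one_of_two {G : Type*} [Group G] {u : G} (hu : orderOf u = 2) : u ≠ 1 := fun h => by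
  rw [h, orderOf_one] at hu; omega

theorem orderOf_conj_eq {G : Type*} [Group G] (g u : G) : orderOf (g * u * g⁻¹) = orderOf u :=
  (MulAut.conj g).orderOf_eq u

theorem conj_comm {G : Type*} [Group G] (g : G) {u v : G} (h : u * v = v * u) :
    g * u * g⁻¹ * (g * v * g⁻¹) = g * v * g⁻¹ * (g * u * g⁻¹) := by
  rw [conj_mul, conj_mul, h]

theorem InV.mem_centralizer {G : Type*} [Group G] {x u : G} (hu : InV x u) :
    u ∈ centralizer ({x} : Set G) :=
  mem_centralizer_singleton_iff.2 hu.2

variable {G : Type*} [Group G] [Finite G] [IsSimpleGroup G] (H : Hyp G)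

include H

theorem Hyp.mem_normalizer_of_two {x g u v : G} (hx : orderOf x = 3) (hu : InV x u) (hv : InV x v)
    (hg : g * u * g⁻¹ = v) : g ∈ normalizer (zpowers x : Set G) := by
  refine mem_normalizer_zpowers (H.mem_core hv.1 ((orderOf_conj_eq g x).trans hx) hx ?_ hv.2)
  rw [← hg]
  exact conj_comm g hu.2

theorem Hyp.centralizer_le_normalizer_core {x u : G} (hx : orderOf x = 3) (hu : InV x u) :
    centralizer ({u} : Set G) ≤ normalizer (zpowers x : Set G) := fun g hg =>
  H.mem_normalizer_of_two hx hu hu (mul_inv_eq_iff_eq_mul.2 (mem_centralizer_singleton_iff.1 hg))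

theorem Hyp.mem_sylow_comm (P : Sylow 3 G) {u v : G} (hu : u ∈ (P : Subgroup G))
    (hv : v ∈ (P : Subgroup G)) : u * v = v * u := by
  have : Fact (Nat.Prime 3) := ⟨Nat.prime_three⟩
  exact congrArg Subtype.val (IsPGroup.commutative_of_card_eq_prime_sq (p := 3)
    (CfsgLib.Perm.sylow_card_eq P (k := 2) (m := 280) (by rw [H.card]; norm_num) (by norm_num))
    ⟨u, hu⟩ ⟨v, hv⟩)

theorem Hyp.card_sylow_three (P : Sylow 3 G) : Nat.card (P : Subgroup G) = 9 := by
  have : Fact (Nat.Prime 3) := ⟨Nat.prime_three⟩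
  rw [CfsgLib.Perm.sylow_card_eq P (k := 2) (m := 280) (by rw [H.card]; norm_num) (by norm_num)]
  norm_num

/-- The normalizer of an axis has order `72`. -/
theorem Hyp.card_normalizer_axis {x : G} (hx : Axial x) :
    Nat.card (normalizer (zpowers x : Set G)) = 72 := by
  have : Fact (Nat.Prime 3) := ⟨Nat.prime_three⟩
  obtain ⟨h3, t, ht, htx⟩ := hx
  set M := normalizer (zpowers x : Set G)
  have h8 : 8 ∣ Nat.card M :=
    (H.eight_dvd ht).trans (card_dvd_of_le (H.centralizer_le_normalizer_core h3 ⟨ht, htx⟩))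
  obtain ⟨P, hP⟩ := (IsPGroup.of_card (n := 1) (by rw [Nat.card_zpowers, h3, pow_one]) :
    IsPGroup 3 (zpowers x)).exists_le_sylow
  have hPM : (P : Subgroup G) ≤ M := fun g hg => mem_normalizer_zpowers (by
    rw [H.mem_sylow_comm P hg (hP (mem_zpowers x)), mul_inv_cancel_right]
    exact mem_zpowers x)
  have h9 : 9 ∣ Nat.card M := H.card_sylow_three P ▸ card_dvd_of_le hPM
  obtain ⟨j, hj⟩ := (show Nat.Coprime 8 9 by norm_num).mul_dvd_of_dvd_of_dvd h8 h9
  have hle := H.card_normalizer_zpowers_le (x := x) fun h => by rw [h, orderOf_one] at h3; omega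
  have hpos : 0 < Nat.card M := Nat.card_pos
  have hd := card_subgroup_dvd_card M
  rw [H.card, hj] at hd
  have hj35 : j ∣ 35 := (Nat.mul_dvd_mul_iff_left (by norm_num : 0 < 72)).1 hd
  rw [hj] at hle hpos ⊢
  have : j ≤ 4 := by omega
  interval_cases j <;> omega

/-- The orbit of an involution centralizing the axis has three elements. -/
theorem Hyp.ncard_le_three {x u : G} (hx : orderOf x = 3) (hu : InV x u) {T : Finset G}
    (hT : ∀ v ∈ T, InV x v) : T.card ≤ 3 := by
  classical
  have := Fintype.ofFinite G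
  set M := normalizer (zpowers x : Set G) with hM
  letI act : MulAction M G := MulAction.compHom G (ConjAct.toConjAct.toMonoidHom.comp M.subtype)
  have hact : ∀ (m : M) (v : G), m • v = (m : G) * v * (m : G)⁻¹ := fun m v => rfl
  have horb : (↑T : Set G) ⊆ MulAction.orbit M u := by
    intro v hv
    obtain ⟨g, hg⟩ := isConj_iff.1 (H.all_conj u v hu.1 (hT v hv).1)
    exact ⟨⟨g, H.mem_normalizer_of_two hx hu (hT v hv) hg⟩, hg⟩
  have hstab : Nat.card (MulAction.stabilizer M u) = 24 := by
    rw [← H.card_centralizer_involution hu.1]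
    refine Nat.card_congr
      { toFun := fun m => ⟨((m : M) : G), mem_centralizer_singleton_iff.2
          (mul_inv_eq_iff_eq_mul.1 ((hact m.1 u).symm.trans m.2))⟩
        invFun := fun g => ⟨⟨g, H.centralizer_le_normalizer_core hx hu g.2⟩,
          (hact _ u).trans (mul_inv_eq_iff_eq_mul.2 (mem_centralizer_singleton_iff.1 g.2))⟩
        left_inv := fun m => rfl
        right_inv := fun g => rfl }
  have hidx := card_mul_index (MulAction.stabilizer M u)
  rw [hstab, MulAction.index_stabilizer, H.card_normalizer_axis ⟨hx, u, hu.1, hu.2⟩] at hidx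
  have := Set.ncard_le_ncard horb (Set.toFinite _)
  rw [Set.ncard_coe_finset] at this
  omega

set_option maxHeartbeats 800000 in
/-- No element of order four centralizes an axis element that its generator's square centralizes. -/
theorem Hyp.false_of_four {x r b : G} (hx : orderOf x = 3) (hr : orderOf r = 4)
    (hrx : r * x = x * r) (hb : b * x * b⁻¹ = x⁻¹) : False := by
  have : Fact (Nat.Prime 3) := ⟨Nat.prime_three⟩
  have : Fact (Nat.Prime 2) := ⟨Nat.prime_two⟩
  set c := r ^ 2 with hc
  have hc2 : orderOf c = 2 := by rw [hc, orderOf_pow' r (by norm_num), hr]; norm_num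
  have hcx : c * x = x * c := (Commute.pow_left hrx 2).eq
  set C := centralizer ({x} : Set G) with hCdef
  set M := normalizer (zpowers x : Set G) with hMdef
  have hCM : C ≤ M := fun g hg => mem_normalizer_zpowers (by
    rw [mem_centralizer_singleton_iff.1 hg, mul_inv_cancel_right]; exact mem_zpowers x)
  have hbM : b ∈ M := mem_normalizer_zpowers (hb ▸ inv_mem (mem_zpowers x))
  have hbC : b ∉ C := fun h => by
    rw [mem_centralizer_singleton_iff.1 h, mul_inv_cancel_right, eq_inv_iff_mul_eq_one, ← pow_two] at hb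
    have := Nat.le_of_dvd (by norm_num) (orderOf_dvd_of_pow_eq_one hb)
    omega
  have hM72 : Nat.card M = 72 := H.card_normalizer_axis ⟨hx, c, hc2, hcx⟩
  have hrC : r ∈ C := mem_centralizer_singleton_iff.2 hrx
  obtain ⟨P, hP⟩ := (IsPGroup.of_card (n := 1) (by rw [Nat.card_zpowers, hx, pow_one]) :
    IsPGroup 3 (zpowers x)).exists_le_sylow
  have hPC : (P : Subgroup G) ≤ C := fun g hg =>
    mem_centralizer_singleton_iff.2 (H.mem_sylow_comm P hg (hP (mem_zpowers x)))
  have h36 : Nat.card C = 36 := by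
    have h4 : 4 ∣ Nat.card C := hr ▸ Subgroup.orderOf_dvd_natCard _ hrC
    have h9 : 9 ∣ Nat.card C := H.card_sylow_three P ▸ card_dvd_of_le hPC
    obtain ⟨j, hj⟩ := (show Nat.Coprime 4 9 by norm_num).mul_dvd_of_dvd_of_dvd h4 h9
    have hd : Nat.card C ∣ 72 := hM72 ▸ card_dvd_of_le hCM
    have hne : Nat.card C ≠ 72 := fun e => hbC ((eq_of_le_of_card_ge hCM (by rw [hM72, e])).ge hbM)
    have := Nat.le_of_dvd (by norm_num) hd
    have hpos : 0 < Nat.card C := Nat.card_pos
    rw [hj] at this hne hpos ⊢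
    omega
  -- the normal subgroup of order nine
  obtain ⟨Q, hQ⟩ := (IsPGroup.of_card (n := 2) (by
    rw [Nat.card_zpowers, ← orderOf_injective C.subtype C.subtype_injective]
    show orderOf r = 2 ^ 2
    rw [hr]; norm_num) : IsPGroup 2 (zpowers (⟨r, hrC⟩ : C))).exists_le_sylow
  have hQ4 : Nat.card (Q : Subgroup C) = 4 := by
    simpa using CfsgLib.Perm.sylow_card_eq Q (k := 2) (m := 9) (by rw [h36]; norm_num) (by norm_num)
  have hQr : zpowers (⟨r, hrC⟩ : C) = Q := eq_of_le_of_card_ge hQ (by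
    rw [hQ4, Nat.card_zpowers, ← orderOf_injective C.subtype C.subtype_injective]
    exact le_of_eq hr.symm)
  have hQc : IsCyclic (Q : Subgroup C) := hQr ▸ inferInstance
  have hmin : (Nat.card C).minFac = 2 := by rw [h36]; norm_num
  obtain ⟨K, hKn, hKQ⟩ : ∃ K : Subgroup C, K.Normal ∧ K.IsComplement' (Q : Subgroup C) :=
    ⟨_, MonoidHom.normal_ker _, IsCyclic.isComplement' hmin hQc⟩
  have hK9 : Nat.card K = 9 := by
    have := hKQ.card_mul_card
    rw [hQ4, h36] at this
    exact Nat.eq_of_mul_eq_mul_right (by norm_num) (this.trans (by norm_num : (36 : ℕ) = 9 * 4))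
  set K' := K.map C.subtype with hK'def
  have hK'9 : Nat.card K' = 9 := by rw [hK'def, card_map_of_injective C.subtype_injective, hK9]
  have hcommK : ∀ u ∈ K', ∀ v ∈ K', u * v = v * u := fun u hu v hv =>
    congrArg Subtype.val (IsPGroup.commutative_of_card_eq_prime_sq (p := 3)
      (hK'9.trans (by norm_num)) ⟨u, hu⟩ ⟨v, hv⟩)
  have hxK : x ∈ K' := by
    have hxC : x ∈ C := mem_centralizer_singleton_iff.2 rfl
    refine ⟨⟨x, hxC⟩, ?_, rfl⟩
    show (⟨x, hxC⟩ : C) ∈ K
    rw [← QuotientGroup.eq_one_iff]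
    have h3 : ((⟨x, hxC⟩ : C) : C ⧸ K) ^ 3 = 1 := by
      rw [← QuotientGroup.mk_pow, show (⟨x, hxC⟩ : C) ^ 3 = 1 from Subtype.ext (by
        show x ^ 3 = 1
        rw [← hx, pow_orderOf_eq_one]), QuotientGroup.mk_one]
    have h4 : ((⟨x, hxC⟩ : C) : C ⧸ K) ^ 4 = 1 := by
      rw [← hQ4, ← hKQ.symm.index_eq_card, index_eq_card]
      exact pow_card_eq_one'
    rw [pow_succ, h3, one_mul] at h4
    exact h4
  have hrK : ∀ u ∈ K', r * u * r⁻¹ ∈ K' := by
    rintro _ ⟨u, hu, rfl⟩
    exact ⟨⟨r, hrC⟩ * u * ⟨r, hrC⟩⁻¹, hKn.conj_mem u hu _, rfl⟩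
  -- `c` centralizes it
  have h9c : K' ≤ centralizer ({c} : Set G) := by
    intro u hu
    rw [mem_centralizer_singleton_iff]
    by_cases hux : u ∈ zpowers x
    · obtain ⟨i, rfl⟩ := mem_zpowers_iff.1 hux
      exact ((Commute.zpow_right hcx i).eq).symm
    set W := (zpowers x).subgroupOf K' with hW
    have : IsMulCommutative K' := ⟨⟨fun p q => Subtype.ext (hcommK p p.2 q q.2)⟩⟩
    have hWn : W.Normal := ⟨fun n hn g => by
      rwa [show g * n * g⁻¹ = n by rw [mul_comm' g n, mul_inv_cancel_right]]⟩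
    have hW3 : Nat.card W = 3 := by
      rw [hW, Nat.card_congr (subgroupOfEquivOfLe (zpowers_le.2 hxK)).toEquiv, Nat.card_zpowers, hx]
    have hq3 : Nat.card (K' ⧸ W) = 3 := by
      have := card_mul_index W
      rw [hW3, hK'9, index_eq_card] at this
      omega
    have hne : ((⟨u, hu⟩ : K') : K' ⧸ W) ≠ 1 := fun h =>
      hux (mem_subgroupOf.1 ((QuotientGroup.eq_one_iff _).1 h))
    have htop := zpowers_eq_top_of_prime_card hq3 hne
    obtain ⟨k, hk⟩ := (mem_powers_iff_mem_zpowers).2
      (htop ▸ mem_top ((⟨_, hrK u hu⟩ : K') : K' ⧸ W))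
    simp only at hk
    rw [← QuotientGroup.mk_pow, QuotientGroup.eq, mem_subgroupOf] at hk
    obtain ⟨m, hm⟩ := mem_zpowers_iff.1 hk
    simp only [coe_mul, coe_inv, SubmonoidClass.coe_pow] at hm
    have hru : r * u * r⁻¹ = u ^ k * x ^ m := by rw [hm]; group
    have hk3 : ¬ 3 ∣ k := by
      rintro ⟨l, hl⟩
      have h1 : r * u * r⁻¹ ∈ zpowers x := by
        rw [hru, hl, pow_mul]
        refine mul_mem (pow_mem ?_ l) (zpow_mem (mem_zpowers x) m)
        have h3 : ((⟨u, hu⟩ : K') : K' ⧸ W) ^ 3 = 1 := by rw [← hq3]; exact pow_card_eq_one'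
        rw [← QuotientGroup.mk_pow] at h3
        exact mem_subgroupOf.1 ((QuotientGroup.eq_one_iff _).1 h3)
      obtain ⟨i, hi⟩ := mem_zpowers_iff.1 h1
      refine hux (mem_zpowers_iff.2 ⟨i, ?_⟩)
      have h2 : r * x ^ i * r⁻¹ = x ^ i := by
        rw [(Commute.zpow_right hrx i).eq, mul_inv_cancel_right]
      exact (MulAut.conj r).injective (h2.trans hi)
    have hr2 : c * u * c⁻¹ = u ^ (k * k) * x ^ (m * k + m) := by
      calc c * u * c⁻¹ = r * (r * u * r⁻¹) * r⁻¹ := by rw [hc, pow_two]; group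
        _ = r * (u ^ k * x ^ m) * r⁻¹ := by rw [hru]
        _ = (r * u * r⁻¹) ^ k * (r * x ^ m * r⁻¹) := by rw [conj_pow, conj_mul]
        _ = (u ^ k * x ^ m) ^ k * x ^ m := by
          rw [hru, (Commute.zpow_right hrx m).eq, mul_inv_cancel_right]
        _ = _ := by
          have hux' : Commute u x := hcommK u hu x hxK
          rw [Commute.mul_pow ((hux'.zpow_right m).pow_left k), ← pow_mul,
            ← zpow_natCast (x ^ m) k, ← zpow_mul, mul_assoc, ← zpow_add]
    obtain ⟨l, hl⟩ : ∃ l, k * k = 3 * l + 1 := by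
      refine ⟨(k * k) / 3, ?_⟩
      rcases (show k % 3 = 1 ∨ k % 3 = 2 by omega) with e | e <;>
        · have := Nat.mul_mod k k 3
          rw [e] at this
          omega
    have h3u : u ^ 3 ∈ zpowers x := by
      have h3 : ((⟨u, hu⟩ : K') : K' ⧸ W) ^ 3 = 1 := by rw [← hq3]; exact pow_card_eq_one'
      rw [← QuotientGroup.mk_pow] at h3
      exact mem_subgroupOf.1 ((QuotientGroup.eq_one_iff _).1 h3)
    obtain ⟨n, hn⟩ := mem_zpowers_iff.1 h3u
    obtain ⟨i, hi⟩ : ∃ i : ℤ, c * u * c⁻¹ = u * x ^ i := ⟨n * l + (m * k + m), by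
      rw [hr2, hl, pow_succ', pow_mul, ← hn, ← zpow_natCast (x ^ n) l, ← zpow_mul, mul_assoc,
        ← zpow_add]⟩
    have hcc : c * c = 1 := mul_self_of_two hc2
    have hx2 : u * (x ^ i * x ^ i) = u := by
      calc u * (x ^ i * x ^ i) = (c * u * c⁻¹) * x ^ i := by rw [hi, mul_assoc]
        _ = c * u * (c⁻¹ * x ^ i) := by group
        _ = c * u * (x ^ i * c⁻¹) := by rw [((Commute.inv_left hcx).zpow_right i).eq]
        _ = c * (u * x ^ i) * c⁻¹ := by group
        _ = c * (c * u * c⁻¹) * c⁻¹ := by rw [hi]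
        _ = (c * c) * u * (c * c)⁻¹ := by group
        _ = u := by rw [hcc]; group
    have hxi : x ^ i = 1 := by
      have h2 : x ^ (2 * i) = 1 := by rw [two_mul, zpow_add]; exact mul_eq_left.1 hx2
      have hd := orderOf_dvd_iff_zpow_eq_one.2 h2
      rw [hx] at hd
      refine orderOf_dvd_iff_zpow_eq_one.1 ?_
      rw [hx]
      omega
    rw [hxi, mul_one, mul_inv_eq_iff_eq_mul] at hi
    exact hi.symm
  have := card_dvd_of_le h9c
  rw [hK'9, H.card_centralizer_involution hc2] at this
  norm_num at this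

/-- An axis has a frame. -/
theorem Hyp.exists_frame {x : G} (hx : Axial x) : ∃ c a b, Frame x c a b := by
  classical
  have : Fact (Nat.Prime 2) := ⟨Nat.prime_two⟩
  obtain ⟨h3, t, ht, htx⟩ := hx
  obtain ⟨S⟩ := (inferInstance : Nonempty (Sylow 2 G))
  obtain ⟨f, hf, hr⟩ := H.exists_model S
  have hord : ∀ d, orderOf (f d) = orderOf d := fun d => orderOf_injective f hf d
  have hc2 : orderOf (f (DihedralGroup.r 2)) = 2 := by
    rw [hord]; exact orderOf_eq_prime (by decide) (by decide)
  set c := f (DihedralGroup.r 2) with hcdef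
  obtain ⟨g, hg⟩ := isConj_iff.1 (H.all_conj c t hc2 ht)
  set w := g⁻¹ * x * g with hw
  have hw3 : orderOf w = 3 := by
    rw [hw, show g⁻¹ * x * g = g⁻¹ * x * g⁻¹⁻¹ by group, orderOf_conj_eq, h3]
  have hcw : c * w = w * c := by
    have h1 : c = g⁻¹ * t * g⁻¹⁻¹ := by rw [← hg]; group
    rw [h1, hw, show g⁻¹ * x * g = g⁻¹ * x * g⁻¹⁻¹ by group]
    exact conj_comm g⁻¹ htx
  have hinv : ∀ d, c * f d = f d * c := fun d => by
    rw [hcdef, ← map_mul, ← map_mul]
    congr 1
    revert d
    decide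
  have hcases : ∀ d, f d * w * (f d)⁻¹ = w ∨ f d * w * (f d)⁻¹ = w⁻¹ := fun d => by
    have hmem : f d * w * (f d)⁻¹ ∈ zpowers w := by
      refine H.mem_core hc2 ((orderOf_conj_eq _ w).trans hw3) hw3 ?_ hcw
      have := conj_comm (f d) hcw
      rwa [show f d * c * (f d)⁻¹ = c by rw [← hinv d, mul_inv_cancel_right]] at this
    rcases three_cases hw3 hmem with h | h | h
    · exact absurd (conj_eq_one_iff.1 h) fun e => by rw [e, orderOf_one] at hw3; omega
    · exact Or.inl h
    · exact Or.inr h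
  have hsr : ∀ i, orderOf (f (DihedralGroup.sr i)) = 2 := fun i => by rw [hord, DihedralGroup.orderOf_sr]
  -- one reflection of a consecutive pair centralizes
  obtain ⟨i, hi, hi'⟩ : ∃ i : ZMod (2 ^ 2),
      f (DihedralGroup.sr i) * w * (f (DihedralGroup.sr i))⁻¹ = w ∧
      f (DihedralGroup.sr (i + 1)) * w * (f (DihedralGroup.sr (i + 1)))⁻¹ = w⁻¹ := by
    by_contra hcon
    push Not at hcon
    by_cases h0 : f (DihedralGroup.sr 0) * w * (f (DihedralGroup.sr 0))⁻¹ = w
    · -- the whole Sylow subgroup centralizes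
      have hstep : ∀ i, f (DihedralGroup.sr i) * w * (f (DihedralGroup.sr i))⁻¹ = w →
          f (DihedralGroup.sr (i + 1)) * w * (f (DihedralGroup.sr (i + 1)))⁻¹ = w :=
        fun i hi => (hcases _).resolve_right (hcon i hi)
      have h1 := hstep 0 h0
      have h2 := hstep _ h1
      have h3' := hstep _ h2
      have hall : ∀ i, InV w (f (DihedralGroup.sr i)) := fun i => by
        refine ⟨hsr i, mul_inv_eq_iff_eq_mul.1 ?_⟩
        rcases (show ∀ j : ZMod (2 ^ 2), j = 0 ∨ j = 0 + 1 ∨ j = 0 + 1 + 1 ∨ j = 0 + 1 + 1 + 1 by decide) i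
          with rfl | rfl | rfl | rfl
        exacts [h0, h1, h2, h3']
      have h4 := H.ncard_le_three hw3 ⟨hc2, hcw⟩
        (T := Finset.univ.image fun i : ZMod (2 ^ 2) => f (DihedralGroup.sr i)) (by simp [hall])
      rw [Finset.card_image_of_injective _ (fun i j hij => DihedralGroup.sr.inj (hf hij)),
        Finset.card_univ, ZMod.card] at h4
      norm_num at h4
    · have h0' := (hcases (DihedralGroup.sr 0)).resolve_left h0
      by_cases h1 : f (DihedralGroup.sr 1) * w * (f (DihedralGroup.sr 1))⁻¹ = w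
      · -- the first inverts, the second centralizes; go on from the second
        have h2 := (hcases (DihedralGroup.sr (1 + 1))).resolve_right (hcon 1 h1)
        have h3' := (hcases (DihedralGroup.sr (1 + 1 + 1))).resolve_right (hcon (1 + 1) h2)
        have h4 := (hcases (DihedralGroup.sr (1 + 1 + 1 + 1))).resolve_right (hcon (1 + 1 + 1) h3')
        exact h0 (by rwa [show (1 + 1 + 1 + 1 : ZMod (2 ^ 2)) = 0 by decide] at h4)
      · have h1' := (hcases (DihedralGroup.sr 1)).resolve_left h1
        refine H.false_of_four hw3 (r := f (DihedralGroup.r 1)) (b := f (DihedralGroup.sr 0)) ?_ ?_ h0'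
        · rw [hord, DihedralGroup.orderOf_r_one]; norm_num
        · have e : f (DihedralGroup.r 1) = f (DihedralGroup.sr 0) * f (DihedralGroup.sr 1) := by
            rw [← map_mul, DihedralGroup.sr_mul_sr, sub_zero]
          have h5 : f (DihedralGroup.r 1) * w * (f (DihedralGroup.r 1))⁻¹ = w := by
            rw [e]
            calc f (DihedralGroup.sr 0) * f (DihedralGroup.sr 1) * w *
                (f (DihedralGroup.sr 0) * f (DihedralGroup.sr 1))⁻¹
                = f (DihedralGroup.sr 0) * (f (DihedralGroup.sr 1) * w * (f (DihedralGroup.sr 1))⁻¹) *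
                  (f (DihedralGroup.sr 0))⁻¹ := by group
              _ = f (DihedralGroup.sr 0) * w⁻¹ * (f (DihedralGroup.sr 0))⁻¹ := by rw [h1']
              _ = (f (DihedralGroup.sr 0) * w * (f (DihedralGroup.sr 0))⁻¹)⁻¹ := by group
              _ = w := by rw [h0', inv_inv]
          exact mul_inv_eq_iff_eq_mul.1 h5
  -- carry the frame back
  have hfr : Frame w c (f (DihedralGroup.sr i)) (f (DihedralGroup.sr (i + 1))) :=
    { hc := hc2
      ha := hsr i
      hb := hsr _
      hne := fun h => by cases hf h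
      hca := hinv _
      hcx := hcw
      hax := mul_inv_eq_iff_eq_mul.1 hi
      hbc := (hinv _).symm
      hbx := hi'
      hba := by
        rw [hcdef, ← map_inv, ← map_mul, ← map_mul, ← map_mul]
        congr 1
        exact (show ∀ j : ZMod (2 ^ 2), DihedralGroup.sr (j + 1) * DihedralGroup.sr j *
          (DihedralGroup.sr (j + 1))⁻¹ = DihedralGroup.r 2 * DihedralGroup.sr j by decide) i }
  refine ⟨g * c * g⁻¹, g * f (DihedralGroup.sr i) * g⁻¹, g * f (DihedralGroup.sr (i + 1)) * g⁻¹, ?_⟩
  have hxw : x = g * w * g⁻¹ := by rw [hw]; group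
  rw [hxw]
  exact
    { hc := (orderOf_conj_eq _ _).trans hfr.hc
      ha := (orderOf_conj_eq _ _).trans hfr.ha
      hb := (orderOf_conj_eq _ _).trans hfr.hb
      hne := fun h => hfr.hne ((MulAut.conj g).injective h)
      hca := conj_comm g hfr.hca
      hcx := conj_comm g hfr.hcx
      hax := conj_comm g hfr.hax
      hbc := conj_comm g hfr.hbc
      hbx := by
        have h := congrArg (fun u => g * u * g⁻¹) hfr.hbx
        calc _ = g * (f (DihedralGroup.sr (i + 1)) * w * (f (DihedralGroup.sr (i + 1)))⁻¹) * g⁻¹ := by group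
          _ = g * w⁻¹ * g⁻¹ := h
          _ = _ := by group
      hba := by
        calc _ = g * (f (DihedralGroup.sr (i + 1)) * f (DihedralGroup.sr i) *
              (f (DihedralGroup.sr (i + 1)))⁻¹) * g⁻¹ := by group
          _ = g * (c * f (DihedralGroup.sr i)) * g⁻¹ := by rw [hfr.hba]
          _ = _ := conj_mul.symm }

end CfsgLib.Perm.Alt2520
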