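import Cfsg.Agent.Lib.Perm.SimpleCount
import Cfsg.Agent.Lib.Perm.SylowNormalizer

/-!
# A simple group of order 2520: generalities

The standing hypothesis is that the group is not alternating of degree seven; then every proper subgroup has
index at least eight.
-/

set_option autoImplicit false

namespace CfsgLib.Perm.Alt2520

open Subgroup
open scoped IsMulCommutative

/-- A simple group of order 2520 that is not alternating of degree seven. -/
structure Hyp (G : Type*) [Group G] : Prop where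
  card : Nat.card G = 2520
  noIso : ¬ Nonempty (G ≃* alternatingGroup (Fin 7))

variable {G : Type*} [Group G] [Finite G] [IsSimpleGroup G] (H : Hyp G)

include H

theorem Hyp.nc : ¬ IsMulCommutative G :=
  CfsgLib.Perm.not_comm_of_not_prime (by
    rw [H.card]; exact fun h => by have := h.eq_one_or_self_of_dvd 2 (by norm_num); omega)

omit [IsSimpleGroup G] in
theorem Hyp.not_isPGroup {p : ℕ} [Fact p.Prime] : ¬ IsPGroup p G := by
  rcases eq_or_ne p 2 with rfl | hp
  · exact CfsgLib.Perm.not_isPGroup_of_dvd Nat.prime_three (by norm_num) (by rw [H.card]; norm_num)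
  · exact CfsgLib.Perm.not_isPGroup_of_dvd Nat.prime_two (Ne.symm hp) (by rw [H.card]; norm_num)

theorem Hyp.eight_le_index {K : Subgroup G} (hK : K ≠ ⊤) : 8 ≤ K.index := by
  by_contra! hlt
  have hd := CfsgLib.Perm.two_mul_card_dvd_factorial_index H.nc K hK
  rw [H.card] at hd
  obtain ⟨f, hf⟩ := CfsgLib.Perm.embeds_alternating H.nc K hK
  rcases (show K.index ≤ 6 ∨ K.index = 7 by omega) with h | h
  · have := Nat.le_of_dvd (Nat.factorial_pos _) (hd.trans (Nat.factorial_dvd_factorial h))
    norm_num [Nat.factorial] at this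
  · revert f hf
    rw [h]
    intro f hf
    refine H.noIso ⟨MulEquiv.ofBijective f ((Nat.bijective_iff_injective_and_card f).2 ⟨hf, ?_⟩)⟩
    have h7 := two_mul_nat_card_alternatingGroup (α := Fin 7)
    rw [Nat.card_perm, Nat.card_fin] at h7
    have h7' : (7 : ℕ).factorial = 5040 := rfl
    rw [H.card]
    omega

theorem Hyp.card_le {K : Subgroup G} (hK : K ≠ ⊤) : Nat.card K ≤ 315 := by
  have h := card_mul_index K
  rw [H.card] at h
  have h8 := H.eight_le_index hK
  have := Nat.mul_le_mul_left (Nat.card K) h8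
  omega

omit [Finite G] in
theorem Hyp.eq_one_of_central {x : G} (hx : ∀ g : G, g * x = x * g) : x = 1 := by
  rcases (inferInstance : (center G).Normal).eq_bot_or_eq_top with h | h
  · exact mem_bot.1 (h ▸ mem_center_iff.2 hx)
  · exfalso
    have hc : IsMulCommutative G := ⟨⟨fun a b => mem_center_iff.1 (h ▸ mem_top b) a⟩⟩
    let _ : CommGroup G := { mul_comm := hc.is_comm.comm }
    have := IsSimpleGroup.prime_card (α := G)
    rw [H.card] at this
    have := this.eq_one_or_self_of_dvd 2 (by norm_num)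
    omega

omit [Finite G] in
theorem Hyp.centralizer_ne_top {x : G} (hx : x ≠ 1) : centralizer ({x} : Set G) ≠ ⊤ := fun h =>
  hx (H.eq_one_of_central fun _ => mem_centralizer_singleton_iff.1 (h ▸ mem_top _))

omit [Finite G] H in
theorem normalizer_ne_top {K : Subgroup G} (hK : K ≠ ⊥) (hK' : K ≠ ⊤) :
    normalizer (K : Set G) ≠ ⊤ := fun h =>
  (normalizer_eq_top_iff.1 h).eq_bot_or_eq_top.elim hK hK'

theorem Hyp.card_centralizer_le {x : G} (hx : x ≠ 1) :
    Nat.card (centralizer ({x} : Set G)) ≤ 315 :=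
  H.card_le (H.centralizer_ne_top hx)

theorem Hyp.card_normalizer_zpowers_le {x : G} (hx : x ≠ 1) :
    Nat.card (normalizer (zpowers x : Set G)) ≤ 315 := by
  refine H.card_le (normalizer_ne_top (zpowers_ne_bot.2 hx) fun h => ?_)
  refine H.nc ⟨⟨fun a b => ?_⟩⟩
  obtain ⟨i, rfl⟩ := mem_zpowers_iff.1 (h ▸ mem_top a)
  obtain ⟨j, rfl⟩ := mem_zpowers_iff.1 (h ▸ mem_top b)
  exact (Commute.zpow_zpow (Commute.refl x) i j).eq

/-- An abelian Sylow subgroup has no nontrivial element fixed by its normalizer. -/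
theorem Hyp.exists_not_fixed {p : ℕ} [Fact p.Prime] (P : Sylow p G)
    (hP : IsMulCommutative (P : Subgroup G)) {z : G} (hz : z ∈ (P : Subgroup G)) (hz1 : z ≠ 1) :
    ∃ n ∈ normalizer ((P : Subgroup G) : Set G), n * z * n⁻¹ ≠ z := by
  by_contra! hfix
  have key : ∀ (k : ℕ) (g₀ : G), g₀⁻¹ * z ^ k * g₀ ∈ (P : Subgroup G) → g₀⁻¹ * z ^ k * g₀ = z ^ k := by
    intro k g₀ hg
    obtain ⟨n, hn, he⟩ := P.conj_eq_normalizer_conj_of_mem (z ^ k) g₀ (pow_mem hz k) hg
    rw [he]
    have h1 := hfix n⁻¹ (inv_mem hn)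
    rw [inv_inv] at h1
    have h4 := conj_pow (a := n⁻¹) (b := z) (i := k)
    rw [inv_inv, h1] at h4
    exact h4.symm
  have h1 := MonoidHom.transfer_eq_pow (MonoidHom.id (P : Subgroup G)) z key
  rw [CfsgLib.Perm.hom_comm_trivial H.nc, MonoidHom.id_apply] at h1
  have h2 : z ^ (P : Subgroup G).index = 1 := (congrArg Subtype.val h1).symm
  have h3 : z ^ Nat.card (P : Subgroup G) = 1 :=
    (congrArg Subtype.val (pow_card_eq_one' (x := (⟨z, hz⟩ : (P : Subgroup G)))) :)
  exact hz1 (by simpa [P.card_coprime_index.gcd_eq_one] using pow_gcd_eq_one.2 ⟨h3, h2⟩)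

end CfsgLib.Perm.Alt2520
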