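import Cfsg.Agent.Lib.Perm.Alt2520.Basics
import Cfsg.Agent.Lib.Perm.SylowFixed

/-!
# A simple group of order 2520: no involution centralizes a normal subgroup of order five or seven
-/

set_option autoImplicit false

namespace CfsgLib.Perm.Alt2520

open Subgroup
open scoped Pointwise

variable {G : Type*} [Group G] [Finite G] [IsSimpleGroup G] (H : Hyp G)

include H

/-- An element fixing all Sylow subgroups is trivial. -/
theorem Hyp.eq_one_of_fix_all {p : ℕ} [Fact p.Prime] (hdvd : p ∣ Nat.card G) {z : G}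
    (h : ∀ R : Sylow p G, z • R = R) : z = 1 := by
  have hmem : z ∈ (MulAction.toPermHom G (Sylow p G)).ker := by
    rw [MonoidHom.mem_ker]; exact Equiv.ext h
  rcases (MonoidHom.normal_ker (MulAction.toPermHom G (Sylow p G))).eq_bot_or_eq_top with hb | ht
  · rwa [hb, mem_bot] at hmem
  · exfalso
    have hne := CfsgLib.Perm.card_sylow_ne_one hdvd (H.not_isPGroup (p := p))
    haveI : Nontrivial (Sylow p G) := Finite.one_lt_card_iff_nontrivial.1 (by
      have : 0 < Nat.card (Sylow p G) := Nat.card_pos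
      omega)
    obtain ⟨P, R, hPR⟩ := exists_pair_ne (Sylow p G)
    obtain ⟨g, hg⟩ := MulAction.exists_smul_eq G P R
    have hgk : g ∈ (MulAction.toPermHom G (Sylow p G)).ker := ht ▸ mem_top g
    exact hPR (((congrArg (fun f : Equiv.Perm (Sylow p G) => f P) (MonoidHom.mem_ker.1 hgk)).symm).trans hg)

/-- An involution centralizing a Sylow subgroup fixes no other one when there are few. -/
theorem Hyp.fixed_unique {p : ℕ} [Fact p.Prime] (hdvd : p ∣ Nat.card G) (R : Sylow p G)
    (hR : Nat.card (R : Subgroup G) = p) {z : G} (hz : orderOf z = 2)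
    (hzR : z ∈ centralizer ((R : Subgroup G) : Set G))
    (hsmall : ∀ f, f % p = 1 → f ≤ Nat.card (Sylow p G) → 4 ∣ Nat.card (Sylow p G) - f →
      f = 1 ∨ f = Nat.card (Sylow p G)) :
    Nat.card (CfsgLib.Perm.fixedSylows p z) = 1 := by
  obtain ⟨h4, hle⟩ := CfsgLib.Perm.card_fixedSylows_four (p := p) H.nc
    (z := z) (by rw [← pow_two, ← hz, pow_orderOf_eq_one])
  refine (hsmall _ (CfsgLib.Perm.card_fixedSylows_modEq R hR hzR) hle h4).resolve_right fun hall => ?_
  have hz1 : z = 1 := H.eq_one_of_fix_all hdvd fun S => by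
    obtain ⟨T, rfl⟩ := ((Nat.bijective_iff_injective_and_card
      (Subtype.val : CfsgLib.Perm.fixedSylows p z → Sylow p G)).2
        ⟨Subtype.val_injective, hall⟩).2 S
    exact T.2
  rw [hz1, orderOf_one] at hz
  omega

/-- The order of the centralizer of an involution is prime to seven. -/
theorem Hyp.not_seven_dvd {z : G} (hz : orderOf z = 2) :
    ¬ 7 ∣ Nat.card (centralizer ({z} : Set G)) := by
  intro h7
  have : Fact (Nat.Prime 7) := ⟨by norm_num⟩
  obtain ⟨y0, hy0⟩ := exists_prime_orderOf_dvd_card' 7 h7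
  have hy : orderOf (y0 : G) = 7 := by rw [Subgroup.orderOf_coe, hy0]
  obtain ⟨P, hP⟩ := (IsPGroup.of_card (n := 1) (by rw [Nat.card_zpowers, hy, pow_one]) :
    IsPGroup 7 (zpowers (y0 : G))).exists_le_sylow
  have hPc : Nat.card (P : Subgroup G) = 7 := by
    simpa using CfsgLib.Perm.sylow_card_eq P (k := 1) (m := 360) (by rw [H.card]; norm_num) (by norm_num)
  have hPy : zpowers (y0 : G) = P := eq_of_le_of_card_ge hP (by rw [Nat.card_zpowers, hy, hPc])
  have hzC : z ∈ centralizer ((P : Subgroup G) : Set G) := by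
    rw [← hPy, zpowers_eq_closure, centralizer_closure]
    exact mem_centralizer_singleton_iff.2 (mem_centralizer_singleton_iff.1 y0.2).symm
  set N := normalizer ((P : Subgroup G) : Set G) with hNdef
  set C := centralizer ((P : Subgroup G) : Set G) with hCdef
  have hCN : C ≤ N := centralizer_le_normalizer _
  have h2C : 2 ∣ Nat.card C := hz ▸ Subgroup.orderOf_dvd_natCard _ hzC
  have h2N : 2 ∣ Nat.card N := h2C.trans (card_dvd_of_le hCN)
  have hn := CfsgLib.Perm.card_normalizer_mul_card_sylow P
  rw [← hNdef, H.card] at hn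
  have hmod : Nat.card (Sylow 7 G) % 7 = 1 := by
    have h0 := card_sylow_modEq_one 7 G
    rwa [Nat.ModEq, Nat.one_mod] at h0
  have hn1 : Nat.card (Sylow 7 G) ≠ 1 :=
    CfsgLib.Perm.card_sylow_ne_one (by rw [H.card]; norm_num) H.not_isPGroup
  have hcases : Nat.card (Sylow 7 G) = 8 ∨ Nat.card (Sylow 7 G) = 15 ∨
      Nat.card (Sylow 7 G) = 36 ∨ Nat.card (Sylow 7 G) = 120 := by
    have h1 := Nat.mem_divisors.2 ⟨CfsgLib.Perm.card_sylow_dvd_of_card_eq (p := 7) (k := 1) (m := 360)
      (by rw [H.card]; norm_num), by norm_num⟩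
    rw [show (360 : ℕ).divisors = ({1, 2, 3, 4, 5, 6, 8, 9, 10, 12, 15, 18, 20, 24, 30, 36,
      40, 45, 60, 72, 90, 120, 180, 360} : Finset ℕ) from by decide +kernel] at h1
    simp only [Finset.mem_insert, Finset.mem_singleton] at h1
    omega
  rcases hcases with h | h | h | h
  · rw [h] at hn; omega
  · -- fifteen Sylow subgroups
    have hf := H.fixed_unique (by rw [H.card]; norm_num) P hPc hz hzC (by rw [h]; omega)
    obtain ⟨h4, -⟩ := CfsgLib.Perm.card_fixedSylows_four (p := 7) H.nc
      (z := z) (by rw [← pow_two, ← hz, pow_orderOf_eq_one])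
    omega
  · -- thirty-six Sylow subgroups
    rw [h] at hn
    have hN70 : Nat.card N = 7 * 10 := by omega
    have he6 := CfsgLib.Perm.relIndex_centralizer_dvd_sub_one (P : Subgroup G) hPc
    have he10 := CfsgLib.Perm.relIndex_centralizer_dvd_div (P : Subgroup G) hPc hN70
    have he1 : C.relIndex N ≠ 1 := by
      intro e
      rw [relIndex_eq_one] at e
      exact CfsgLib.Perm.not_normalizer_le_centralizer P (by rw [H.card]; norm_num) H.not_isPGroup e
    have hmul : C.relIndex N * Nat.card C = Nat.card N := by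
      have h0 := index_mul_card (C.subgroupOf N)
      rwa [Nat.card_congr (subgroupOfEquivOfLe hCN).toEquiv] at h0
    rw [← hCdef, ← hNdef] at he6 he10
    have he2 : C.relIndex N ∣ 2 := by
      have := Nat.dvd_gcd he6 he10
      simpa using this
    rcases (Nat.dvd_prime Nat.prime_two).1 he2 with e | e
    · exact he1 e
    · rw [e] at hmul; omega
  · rw [h] at hn; omega

/-- No involution centralizes a subgroup of order five normal in its centralizer. -/
theorem Hyp.false_of_five
    (hconj : ∀ a b : G, orderOf a = 2 → orderOf b = 2 → IsConj a b)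
    (hgen : ∀ S : Sylow 2 G, ∀ K : Subgroup G, (∀ s ∈ (S : Subgroup G), orderOf s = 2 → s ∈ K) →
      (S : Subgroup G) ≤ K)
    {z : G} (hz : orderOf z = 2) (h8 : 8 ∣ Nat.card (centralizer ({z} : Set G))) {U : Subgroup G}
    (hU : Nat.card U = 5) (hUC : U ≤ centralizer ({z} : Set G))
    (hCU : centralizer ({z} : Set G) ≤ normalizer (U : Set G)) : False := by
  have : Fact (Nat.Prime 5) := ⟨by norm_num⟩
  have : Fact (Nat.Prime 2) := ⟨Nat.prime_two⟩
  have h5 : (5 : ℕ) ∣ Nat.card G := by rw [H.card]; norm_num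
  obtain ⟨P, hP⟩ := (IsPGroup.of_card (n := 1) (by rw [hU, pow_one]) : IsPGroup 5 U).exists_le_sylow
  have hPc : Nat.card (P : Subgroup G) = 5 := by
    simpa using CfsgLib.Perm.sylow_card_eq P (k := 1) (m := 504) (by rw [H.card]; norm_num) (by norm_num)
  obtain rfl : U = P := eq_of_le_of_card_ge hP (by rw [hU, hPc])
  have hzC : z ∈ centralizer ((P : Subgroup G) : Set G) := mem_centralizer_iff.2 fun x hx =>
    mem_centralizer_singleton_iff.1 (hUC hx)
  set N := normalizer ((P : Subgroup G) : Set G) with hNdef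
  set C := centralizer ((P : Subgroup G) : Set G) with hCdef
  have hCN : C ≤ N := centralizer_le_normalizer _
  have hN40 : 40 ∣ Nat.card N := by
    refine (show Nat.Coprime 5 8 by norm_num).mul_dvd_of_dvd_of_dvd ?_ (h8.trans (card_dvd_of_le hCU))
    rw [← hPc]; exact card_dvd_of_le le_normalizer
  have hn := CfsgLib.Perm.card_normalizer_mul_card_sylow P
  rw [← hNdef, H.card] at hn
  have hn21 : Nat.card (Sylow 5 G) = 21 := by
    have hmod : Nat.card (Sylow 5 G) % 5 = 1 := by
      have h0 := card_sylow_modEq_one 5 G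
      rwa [Nat.ModEq, Nat.one_mod] at h0
    have hn1 : Nat.card (Sylow 5 G) ≠ 1 := CfsgLib.Perm.card_sylow_ne_one h5 H.not_isPGroup
    obtain ⟨k, hk⟩ := hN40
    rw [hk] at hn
    have hd : Nat.card (Sylow 5 G) ∣ 63 := ⟨k, by
      have : 40 * (k * Nat.card (Sylow 5 G)) = 40 * 63 := by rw [← mul_assoc, hn]
      rw [mul_comm]
      omega⟩
    have h1 := Nat.mem_divisors.2 ⟨hd, by norm_num⟩
    rw [show (63 : ℕ).divisors = ({1, 3, 7, 9, 21, 63} : Finset ℕ) from by decide +kernel] at h1
    simp only [Finset.mem_insert, Finset.mem_singleton] at h1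
    omega
  have hN120 : Nat.card N = 120 := by rw [hn21] at hn; omega
  -- every involution of the normalizer centralizes `P`
  have hcent : ∀ s ∈ N, orderOf s = 2 → s ∈ C := by
    intro s hsN hs
    obtain ⟨c, hc⟩ := isConj_iff.1 (hconj z s hz hs)
    have hsR : s ∈ centralizer ((c • P : Sylow 5 G) : Set G) := by
      refine mem_centralizer_iff.2 fun x hx => ?_
      have hx' : x ∈ ((c • P : Sylow 5 G) : Subgroup G) := hx
      rw [Sylow.coe_subgroup_smul, mem_smul_pointwise_iff_exists] at hx'
      obtain ⟨u, hu, rfl⟩ := hx'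
      have h1 := mem_centralizer_iff.1 hzC u hu
      show c * u * c⁻¹ * s = s * (c * u * c⁻¹)
      rw [← hc]
      calc c * u * c⁻¹ * (c * z * c⁻¹) = c * (u * z) * c⁻¹ := by group
        _ = c * (z * u) * c⁻¹ := by rw [h1]
        _ = _ := by group
    have hRc : Nat.card ((c • P : Sylow 5 G) : Subgroup G) = 5 := by
      simpa using CfsgLib.Perm.sylow_card_eq (c • P) (k := 1) (m := 504) (by rw [H.card]; norm_num)
        (by norm_num)
    have hf := H.fixed_unique h5 (c • P) hRc hs hsR (by rw [hn21]; omega)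
    have hfixP : s • P = P := Sylow.smul_eq_iff_mem_normalizer.2 hsN
    have hfixR : s • (c • P) = c • P :=
      Sylow.smul_eq_iff_mem_normalizer.2 (centralizer_le_normalizer _ hsR)
    have heq : (⟨P, hfixP⟩ : CfsgLib.Perm.fixedSylows 5 s) = ⟨c • P, hfixR⟩ :=
      (Nat.card_eq_one_iff_unique.1 hf).1.elim _ _
    have heq' : (P : Sylow 5 G) = c • P := congrArg Subtype.val heq
    rw [← heq'] at hsR
    exact hsR
  -- so a Sylow subgroup for two does
  obtain ⟨T⟩ := (inferInstance : Nonempty (Sylow 2 N))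
  have hT : Nat.card (T : Subgroup N) = 8 := by
    simpa using CfsgLib.Perm.sylow_card_eq T (k := 3) (m := 15) (by rw [hN120]; norm_num) (by norm_num)
  obtain ⟨S, hS⟩ := (IsPGroup.of_card (p := 2) (n := 3) (by
    rw [Subgroup.card_map_of_injective N.subtype_injective, hT]; norm_num) :
      IsPGroup 2 ((T : Subgroup N).map N.subtype)).exists_le_sylow
  have hSc : Nat.card (S : Subgroup G) = 8 := by
    simpa using CfsgLib.Perm.sylow_card_eq S (k := 3) (m := 315) (by rw [H.card]; norm_num) (by norm_num)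
  have hST : (T : Subgroup N).map N.subtype = S := eq_of_le_of_card_ge hS (by
    rw [Subgroup.card_map_of_injective N.subtype_injective, hT, hSc])
  have hSN : (S : Subgroup G) ≤ N := hST ▸ map_subtype_le _
  have h8C : 8 ∣ Nat.card C :=
    hSc ▸ card_dvd_of_le (hgen S C fun s hs hs2 => hcent s (hSN hs) hs2)
  have he4 := CfsgLib.Perm.relIndex_centralizer_dvd_sub_one (P : Subgroup G) hPc
  have hmul : C.relIndex N * Nat.card C = Nat.card N := by
    have h0 := index_mul_card (C.subgroupOf N)
    rwa [Nat.card_congr (subgroupOfEquivOfLe hCN).toEquiv] at h0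
  rw [← hCdef, ← hNdef] at he4
  have he1 : C.relIndex N ≠ 1 := by
    intro e
    rw [relIndex_eq_one] at e
    exact CfsgLib.Perm.not_normalizer_le_centralizer P h5 H.not_isPGroup e
  obtain ⟨j, hj⟩ := h8C
  rw [hj, hN120] at hmul
  have h15 : C.relIndex N ∣ 15 := ⟨j, by
    have : 8 * (C.relIndex N * j) = 8 * 15 := by rw [mul_left_comm, hmul]
    omega⟩
  have := Nat.dvd_gcd he4 h15
  exact he1 (by simpa using this)

end CfsgLib.Perm.Alt2520
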