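import Cfsg.Agent.Lib.Perm.Alt2520.SylowTwo
import Cfsg.Agent.Lib.Char.Exceptional.D8Centralizer

/-!
# A simple group of order 2520: centralizers of involutions

The centralizer of an involution has order `24` and a normal subgroup of order three; the normalizer of the
latter has order `72`.
-/

set_option autoImplicit false

namespace CfsgLib.Perm.Alt2520

open Subgroup

/-- An element of order three centralized by an involution. -/
def Axial {G : Type*} [Group G] (x : G) : Prop :=
  orderOf x = 3 ∧ ∃ t, orderOf t = 2 ∧ t * x = x * t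

/-- The elements of a cyclic group of order three. -/
theorem three_cases {G : Type*} [Group G] [Finite G] {w u : G} (hw : orderOf w = 3) (hu : u ∈ zpowers w) :
    u = 1 ∨ u = w ∨ u = w⁻¹ := by
  obtain ⟨k, rfl⟩ := (mem_powers_iff_mem_zpowers).2 hu
  show w ^ k = 1 ∨ w ^ k = w ∨ w ^ k = w⁻¹
  rw [← pow_mod_orderOf, hw]
  have h3 : w ^ 3 = 1 := by rw [← hw, pow_orderOf_eq_one]
  rcases (show k % 3 = 0 ∨ k % 3 = 1 ∨ k % 3 = 2 by omega) with e | e | e <;> rw [e]
  · exact Or.inl (pow_zero w)
  · exact Or.inr (Or.inl (pow_one w))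
  · exact Or.inr (Or.inr (eq_inv_iff_mul_eq_one.2 (by rw [← pow_succ, h3])))

/-- An element of order three in a cyclic group of order three generates it. -/
theorem zpowers_eq_of_three {G : Type*} [Group G] [Finite G] {w u : G} (hw : orderOf w = 3) (hu : orderOf u = 3)
    (h : u ∈ zpowers w) : zpowers u = zpowers w := by
  rcases three_cases hw h with rfl | rfl | rfl
  · rw [orderOf_one] at hu; omega
  · rfl
  · exact zpowers_inv

theorem mem_normalizer_zpowers {G : Type*} [Group G] [Finite G] {w g : G}
    (h : g * w * g⁻¹ ∈ zpowers w) : g ∈ normalizer (zpowers w : Set G) := by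
  have hsub : (zpowers w).map (MulAut.conj g).toMonoidHom ≤ zpowers w := by
    rw [MonoidHom.map_zpowers, zpowers_le]
    exact h
  have heq : (zpowers w).map (MulAut.conj g).toMonoidHom = zpowers w :=
    eq_of_le_of_card_ge hsub (by rw [card_map_of_injective (MulAut.conj g).injective])
  rw [mem_normalizer_iff]
  intro v
  constructor
  · exact fun hv => hsub ⟨v, hv, rfl⟩
  · intro hv
    obtain ⟨u, hu, he⟩ := heq.ge hv
    rwa [← (MulAut.conj g).injective he]

variable {G : Type*} [Group G] [Finite G] [IsSimpleGroup G] (H : Hyp G)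

include H

theorem Hyp.eight_dvd {t : G} (ht : orderOf t = 2) : 8 ∣ Nat.card (centralizer ({t} : Set G)) := by
  obtain ⟨S⟩ := (inferInstance : Nonempty (Sylow 2 G))
  obtain ⟨f, hf, hr⟩ := H.exists_model S
  have hc : orderOf (f (DihedralGroup.r 2)) = 2 := by
    rw [orderOf_injective f hf]
    exact orderOf_eq_prime (by decide) (by decide)
  obtain ⟨g, hg⟩ := isConj_iff.1 (H.all_conj t _ ht hc)
  have hle : (S : Subgroup G) ≤ (centralizer ({t} : Set G)).map (MulAut.conj g).toMonoidHom := by
    intro s hs
    rw [← hr] at hs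
    obtain ⟨d, rfl⟩ := hs
    refine ⟨g⁻¹ * f d * g, mem_centralizer_singleton_iff.2 ?_, by simp [mul_assoc]⟩
    have h1 : f d * (g * t * g⁻¹) = g * t * g⁻¹ * f d := by
      rw [hg, ← map_mul, ← map_mul]
      congr 1
      revert d
      decide
    calc g⁻¹ * f d * g * t = g⁻¹ * (f d * (g * t * g⁻¹)) * g := by group
      _ = g⁻¹ * (g * t * g⁻¹ * f d) * g := by rw [h1]
      _ = t * (g⁻¹ * f d * g) := by group
  have := card_dvd_of_le hle
  rwa [H.card_sylow_two S, card_map_of_injective (MulAut.conj g).injective] at this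

/-- The centralizer of an involution has order `24` and a normal subgroup of order three. -/
theorem Hyp.exists_core_normal {t : G} (ht : orderOf t = 2) :
    Nat.card (centralizer ({t} : Set G)) = 24 ∧ ∃ w, orderOf w = 3 ∧ t * w = w * t ∧
      centralizer ({t} : Set G) ≤ normalizer (zpowers w : Set G) := by
  have : Fact (Nat.Prime 2) := ⟨Nat.prime_two⟩
  have : Fact (Nat.Prime 3) := ⟨Nat.prime_three⟩
  set C := centralizer ({t} : Set G) with hC
  have ht1 : t ≠ 1 := fun e => by rw [e, orderOf_one] at ht; omega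
  have hperf := CfsgLib.Perm.ThreePrimeOrder.perfect_of_nc (by exact H.nc : ¬ IsMulCommutative G)
  obtain ⟨S⟩ := (inferInstance : Nonempty (Sylow 2 G))
  obtain ⟨f, hf, hr⟩ := H.exists_model S
  have hcompl : Cfsg.HasNormalPComplement 2 C :=
    CfsgLib.TwoGroups.Dihedral.centralizer_complement hf hr (by norm_num) ht
  obtain ⟨Q, O, hO, hOQ⟩ := hcompl
  obtain ⟨k, hk⟩ := H.eight_dvd ht
  have hdiv : 8 * k ∣ 2520 := hk ▸ H.card ▸ card_subgroup_dvd_card C
  have hk315 : k ∣ 315 := (Nat.mul_dvd_mul_iff_left (by norm_num : 0 < 8)).1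
    (by rwa [show 8 * 315 = 2520 by norm_num])
  have hodd : ¬ 2 ∣ k := fun h => by
    have := dvd_trans h hk315
    omega
  have hQ : Nat.card (Q : Subgroup C) = 8 := by
    simpa using CfsgLib.Perm.sylow_card_eq Q (k := 3) (m := k) (by rw [hk]; norm_num) hodd
  have hOk : Nat.card O = k := by
    have := hOQ.card_mul_card
    rw [hQ, hk] at this
    omega
  have hk39 : k ≤ 39 := by
    have h := H.card_centralizer_le ht1
    rw [← hC, hk] at h
    omega
  have hk7 : ¬ 7 ∣ k := fun h => H.not_seven_dvd ht (by rw [← hC, hk]; exact dvd_mul_of_dvd_right h 8)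
  have hnorm : ∀ {p : ℕ} [Fact p.Prime] (T : Sylow p O), Nat.card (Sylow p O) = 1 →
      centralizer ({t} : Set G) ≤ normalizer
        ((((T : Subgroup O).map O.subtype).map C.subtype : Subgroup G) : Set G) := by
    intro p _ T hT1
    have : Subsingleton (Sylow p O) := (Nat.card_eq_one_iff_unique.1 hT1).1
    rw [le_normalizer_iff]
    rintro g hg _ ⟨v, ⟨u, hu, rfl⟩, rfl⟩
    have hchar : (T : Subgroup O).Characteristic := T.characteristic_of_subsingleton
    have hnn : ((T : Subgroup O).map O.subtype).Normal := inferInstance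
    exact ⟨⟨g, hg⟩ * O.subtype u * ⟨g, hg⟩⁻¹, hnn.conj_mem _ ⟨u, hu, rfl⟩ ⟨g, hg⟩, rfl⟩
  have hcases : k = 1 ∨ k = 3 ∨ k = 5 ∨ k = 9 ∨ k = 15 := by
    have h1 := Nat.mem_divisors.2 ⟨hk315, by norm_num⟩
    rw [show (315 : ℕ).divisors = ({1, 3, 5, 7, 9, 15, 21, 35, 45, 63, 105, 315} : Finset ℕ) from by
      decide +kernel] at h1
    simp only [Finset.mem_insert, Finset.mem_singleton] at h1
    omega
  rcases hcases with rfl | rfl | rfl | rfl | rfl
  · -- dihedral centralizer
    exfalso
    obtain ⟨R, hR⟩ := (IsPGroup.of_card (p := 2) (n := 3) (by rw [hk]; norm_num) :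
      IsPGroup 2 C).exists_le_sylow
    have hCR : C = (R : Subgroup G) := eq_of_le_of_card_ge hR (by rw [hk, H.card_sylow_two R])
    obtain ⟨e⟩ := H.sylow_dihedral R
    have := Fintype.ofFinite G
    have hord := CfsgLib.Char.Exceptional.D8Centralizer.order_of_d8 hperf t ht
      ((MulEquiv.subgroupCongr hCR).trans e)
    rw [H.card] at hord
    omega
  · refine ⟨by rw [hk], ?_⟩
    obtain ⟨T⟩ := (inferInstance : Nonempty (Sylow 3 O))
    have hT : Nat.card (T : Subgroup O) = 3 := by
      simpa using CfsgLib.Perm.sylow_card_eq T (k := 1) (m := 1) (by rw [hOk]; norm_num) (by norm_num)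
    have hT1 : Nat.card (Sylow 3 O) = 1 :=
      Nat.eq_one_of_dvd_one (CfsgLib.Perm.card_sylow_dvd_of_card_eq (k := 1) (m := 1)
        (by rw [hOk]; norm_num))
    set U := ((T : Subgroup O).map O.subtype).map C.subtype with hU
    have hU3 : Nat.card U = 3 := by
      rw [hU, card_map_of_injective C.subtype_injective, card_map_of_injective O.subtype_injective, hT]
    obtain ⟨w0, hw0⟩ := exists_prime_orderOf_dvd_card' (G := U) 3 (by rw [hU3])
    have hw : orderOf (w0 : G) = 3 := by rw [Subgroup.orderOf_coe, hw0]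
    have hUw : zpowers (w0 : G) = U :=
      eq_of_le_of_card_ge (zpowers_le.2 w0.2) (by rw [hU3, Nat.card_zpowers, hw])
    refine ⟨w0, hw, ?_, ?_⟩
    · exact (mem_centralizer_singleton_iff.1 (map_subtype_le _ w0.2)).symm
    · rw [hUw]; exact hnorm T hT1
  all_goals exfalso
  · -- order five
    have : Fact (Nat.Prime 5) := ⟨by norm_num⟩
    obtain ⟨T⟩ := (inferInstance : Nonempty (Sylow 5 O))
    have hT : Nat.card (T : Subgroup O) = 5 := by
      simpa using CfsgLib.Perm.sylow_card_eq T (k := 1) (m := 1) (by rw [hOk]; norm_num) (by norm_num)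
    have hT1 : Nat.card (Sylow 5 O) = 1 :=
      Nat.eq_one_of_dvd_one (CfsgLib.Perm.card_sylow_dvd_of_card_eq (k := 1) (m := 1)
        (by rw [hOk]; norm_num))
    exact H.false_of_five H.all_conj H.gen_involutions ht (by rw [← hC, hk]; norm_num)
      (by rw [card_map_of_injective C.subtype_injective, card_map_of_injective O.subtype_injective, hT])
      (map_subtype_le _) (hnorm T hT1)
  · -- order nine
    obtain ⟨T⟩ := (inferInstance : Nonempty (Sylow 3 O))
    have hT : Nat.card (T : Subgroup O) = 9 := by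
      simpa using CfsgLib.Perm.sylow_card_eq T (k := 2) (m := 1) (by rw [hOk]; norm_num) (by norm_num)
    have hT1 : Nat.card (Sylow 3 O) = 1 :=
      Nat.eq_one_of_dvd_one (CfsgLib.Perm.card_sylow_dvd_of_card_eq (k := 2) (m := 1)
        (by rw [hOk]; norm_num))
    set U := ((T : Subgroup O).map O.subtype).map C.subtype with hU
    have hU9 : Nat.card U = 9 := by
      rw [hU, card_map_of_injective C.subtype_injective, card_map_of_injective O.subtype_injective, hT]
    obtain ⟨R, hR⟩ := (IsPGroup.of_card (p := 3) (n := 2) (by rw [hU9]; norm_num) :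
      IsPGroup 3 U).exists_le_sylow
    have hUR : U = (R : Subgroup G) := eq_of_le_of_card_ge hR (by
      rw [hU9, CfsgLib.Perm.sylow_card_eq R (k := 2) (m := 280) (by rw [H.card]; norm_num) (by norm_num)]
      norm_num)
    have hle := hnorm T hT1
    rw [← hU, hUR] at hle
    have h72 : 9 * 8 ∣ Nat.card (normalizer ((R : Subgroup G) : Set G)) := by
      refine (show Nat.Coprime 9 8 by norm_num).mul_dvd_of_dvd_of_dvd ?_ ?_
      · rw [← hU9, hUR]; exact card_dvd_of_le le_normalizer
      · exact (H.eight_dvd ht).trans (card_dvd_of_le hle)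
    obtain ⟨m, hm⟩ := h72
    have hn := CfsgLib.Perm.card_normalizer_mul_card_sylow R
    rw [hm, H.card] at hn
    have h8 : 8 ≤ Nat.card (Sylow 3 G) := by
      rw [R.card_eq_index_normalizer]
      refine H.eight_le_index (normalizer_ne_top (R.ne_bot_of_dvd_card (by rw [H.card]; norm_num)) fun h => ?_)
      rw [← hUR] at h
      rw [h, card_top, H.card] at hU9
      omega
    have hmod : Nat.card (Sylow 3 G) % 3 = 1 := by
      have h0 := card_sylow_modEq_one 3 G
      rwa [Nat.ModEq, Nat.one_mod] at h0
    have hd : Nat.card (Sylow 3 G) ∣ 35 := ⟨m, by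
      have h1 : 72 * (m * Nat.card (Sylow 3 G)) = 72 * 35 := by rw [← mul_assoc, hn]
      rw [mul_comm]
      omega⟩
    have h1 := Nat.mem_divisors.2 ⟨hd, by norm_num⟩
    rw [show (35 : ℕ).divisors = ({1, 5, 7, 35} : Finset ℕ) from by decide +kernel] at h1
    simp only [Finset.mem_insert, Finset.mem_singleton] at h1
    omega
  · -- order fifteen
    have : Fact (Nat.Prime 5) := ⟨by norm_num⟩
    obtain ⟨T⟩ := (inferInstance : Nonempty (Sylow 5 O))
    have hT : Nat.card (T : Subgroup O) = 5 := by
      simpa using CfsgLib.Perm.sylow_card_eq T (k := 1) (m := 3) (by rw [hOk]; norm_num) (by norm_num)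
    have hT1 : Nat.card (Sylow 5 O) = 1 := by
      have h1 := CfsgLib.Perm.card_sylow_dvd_of_card_eq (G := O) (p := 5) (k := 1) (m := 3)
        (by rw [hOk]; norm_num)
      have hmod : Nat.card (Sylow 5 O) % 5 = 1 := by
        have h0 := card_sylow_modEq_one 5 O
        rwa [Nat.ModEq, Nat.one_mod] at h0
      have := Nat.le_of_dvd (by norm_num) h1
      omega
    exact H.false_of_five H.all_conj H.gen_involutions ht (by rw [← hC, hk]; norm_num)
      (by rw [card_map_of_injective C.subtype_injective, card_map_of_injective O.subtype_injective, hT])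
      (map_subtype_le _) (hnorm T hT1)

theorem Hyp.card_centralizer_involution {t : G} (ht : orderOf t = 2) :
    Nat.card (centralizer ({t} : Set G)) = 24 := (H.exists_core_normal ht).1

/-- Two elements of order three commuting with one involution generate the same subgroup. -/
theorem Hyp.mem_core {t u w : G} (ht : orderOf t = 2) (hu : orderOf u = 3) (hw : orderOf w = 3)
    (htu : t * u = u * t) (htw : t * w = w * t) : u ∈ zpowers w := by
  obtain ⟨h24, w₀, hw₀, htw₀, hle⟩ := H.exists_core_normal ht
  have key : ∀ v : G, orderOf v = 3 → t * v = v * t → zpowers v = zpowers w₀ := by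
    intro v hv htv
    by_contra hne
    have hvC : v ∈ centralizer ({t} : Set G) := mem_centralizer_singleton_iff.2 htv.symm
    have hw₀C : w₀ ∈ centralizer ({t} : Set G) := mem_centralizer_singleton_iff.2 htw₀.symm
    have hnmem : v ∉ zpowers w₀ := fun h => hne (zpowers_eq_of_three hw₀ hv h)
    have h3 : w₀ ^ 3 = 1 := by rw [← hw₀, pow_orderOf_eq_one]
    have h3v : v ^ 3 = 1 := by rw [← hv, pow_orderOf_eq_one]
    set K := zpowers v ⊔ zpowers w₀ with hK
    have hKC : K ≤ centralizer ({t} : Set G) := sup_le (zpowers_le.2 hvC) (zpowers_le.2 hw₀C)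
    have hvN : zpowers v ≤ normalizer (zpowers w₀ : Set G) := zpowers_le.2 (hle hvC)
    have hp : IsPGroup 3 K := by
      refine IsPGroup.to_sup_of_normal_right' (p := 3) ?_ ?_ hvN
      · exact IsPGroup.of_card (n := 1) (by rw [Nat.card_zpowers, hv, pow_one])
      · exact IsPGroup.of_card (n := 1) (by rw [Nat.card_zpowers, hw₀, pow_one])
    have : Fact (Nat.Prime 3) := ⟨Nat.prime_three⟩
    obtain ⟨n, hn⟩ := IsPGroup.iff_card.1 hp
    have hd : Nat.card K ∣ 24 := h24 ▸ card_dvd_of_le hKC
    have hd3 : Nat.card K ∣ 3 := by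
      rw [hn] at hd ⊢
      rcases n with _ | _ | n
      · norm_num
      · norm_num
      · exfalso
        rw [pow_succ, pow_succ, mul_assoc] at hd
        have := dvd_trans (Dvd.intro_left _ rfl) hd
        norm_num at this
    have heq : zpowers w₀ = K := eq_of_le_of_card_ge le_sup_right (by
      rw [Nat.card_zpowers, hw₀]
      exact Nat.le_of_dvd (by norm_num) hd3)
    exact hnmem (heq ▸ mem_sup_left (mem_zpowers v))
  rw [key w hw htw, ← key u hu htu]
  exact mem_zpowers u

end CfsgLib.Perm.Alt2520
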