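import Cfsg.Agent.Lib.TwoGroups.Recognition
import Mathlib.GroupTheory.IndexNormal

/-!
# Groups of order eight

A group of order eight is commutative, dihedral or quaternion; in a commutative one the fourth powers being
trivial, the squares form a group of order at most two.
-/

set_option autoImplicit false

namespace CfsgLib.Perm.Alt2520

open Subgroup

/-- A group of order eight is commutative, dihedral or quaternion. -/
theorem eight_cases {T : Type*} [Group T] (h : Nat.card T = 8) :
    (∀ a b : T, a * b = b * a) ∨ Nonempty (T ≃* DihedralGroup 4) ∨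
      Nonempty (T ≃* QuaternionGroup 2) := by
  have : Finite T := Nat.finite_of_card_ne_zero (by omega)
  by_cases hexp : ∀ a : T, a * a = 1
  · left
    intro a b
    have hi : ∀ c : T, c⁻¹ = c := fun c => inv_eq_of_mul_eq_one_right (hexp c)
    rw [← hi (a * b), mul_inv_rev, hi, hi]
  push Not at hexp
  obtain ⟨a, ha⟩ := hexp
  have hd : orderOf a ∣ 8 := h ▸ orderOf_dvd_natCard a
  have hle := Nat.le_of_dvd (by norm_num) hd
  have h1 : orderOf a ≠ 1 := fun e => ha (by rw [orderOf_eq_one_iff.1 e, one_mul])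
  have h2 : orderOf a ≠ 2 := fun e => ha (by rw [← pow_two, ← e, pow_orderOf_eq_one])
  have h48 : orderOf a = 4 ∨ orderOf a = 8 := by
    generalize orderOf a = k at hd hle h1 h2
    interval_cases k <;> omega
  rcases h48 with h4 | h8
  swap
  · left
    have htop : zpowers a = ⊤ := eq_top_of_card_eq _ (by rw [Nat.card_zpowers, h8, h])
    intro b c
    obtain ⟨i, rfl⟩ := mem_zpowers_iff.1 (htop ▸ mem_top b)
    obtain ⟨j, rfl⟩ := mem_zpowers_iff.1 (htop ▸ mem_top c)
    exact (Commute.zpow_zpow (Commute.refl a) i j).eq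
  have hidx : (zpowers a).index = 2 := by
    have := card_mul_index (zpowers a)
    rw [Nat.card_zpowers, h4, h] at this
    omega
  obtain ⟨b, hb⟩ : ∃ b, b ∉ zpowers a := by
    by_contra hcon
    push Not at hcon
    rw [(eq_top_iff' _).2 hcon, index_top] at hidx
    omega
  have hn : (zpowers a).Normal := normal_of_index_eq_two hidx
  have hconj : b * a * b⁻¹ ∈ zpowers a := hn.conj_mem a (mem_zpowers a) b
  obtain ⟨i, hi⟩ := (mem_powers_iff_mem_zpowers).2 hconj
  simp only at hi
  have hia : orderOf (a ^ (i % 4)) = 4 := by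
    rw [← h4, pow_mod_orderOf, hi]
    exact (MulAut.conj b).orderOf_eq a
  have h4' : a ^ 4 = 1 := by rw [← h4, pow_orderOf_eq_one]
  have hpow : b * a * b⁻¹ = a ^ (i % 4) := by rw [← h4, pow_mod_orderOf, hi]
  rcases (show i % 4 = 0 ∨ i % 4 = 1 ∨ i % 4 = 2 ∨ i % 4 = 3 by omega) with e | e | e | e <;>
    rw [e] at hpow hia
  · rw [pow_zero, orderOf_one] at hia; omega
  · left
    have hab : Commute b a := by
      rw [pow_one] at hpow
      exact mul_inv_eq_iff_eq_mul.1 hpow
    have key : ∀ t : T, ∃ j : ℤ, t = a ^ j ∨ t = b * a ^ j := fun t => by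
      by_cases ht : t ∈ zpowers a
      · obtain ⟨j, rfl⟩ := mem_zpowers_iff.1 ht
        exact ⟨j, Or.inl rfl⟩
      · have : b⁻¹ * t ∈ zpowers a := (mul_mem_iff_of_index_two hidx).2 (by simp [hb, ht])
        obtain ⟨j, hj⟩ := mem_zpowers_iff.1 this
        exact ⟨j, Or.inr (by rw [hj]; group)⟩
    intro s t
    obtain ⟨j, hs⟩ := key s
    obtain ⟨k, ht⟩ := key t
    have hjk : Commute (a ^ j) (a ^ k) := Commute.zpow_zpow (Commute.refl a) j k
    rcases hs with rfl | rfl <;> rcases ht with rfl | rfl
    · exact hjk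
    · exact Commute.mul_right ((hab.zpow_right j).symm) hjk
    · exact Commute.mul_left (hab.zpow_right k) hjk
    · exact Commute.mul_left (Commute.mul_right (Commute.refl b) (hab.zpow_right k))
        (Commute.mul_right (hab.zpow_right j).symm hjk)
  · rw [orderOf_pow' a (by norm_num), h4] at hia; norm_num at hia
  right
  have hinv : b * a * b⁻¹ = a⁻¹ := by
    rw [hpow, eq_inv_iff_mul_eq_one, ← pow_succ, h4']
  have hbb : b * b ∈ zpowers a := (mul_mem_iff_of_index_two hidx).2 Iff.rfl
  obtain ⟨j, hj⟩ := (mem_powers_iff_mem_zpowers).2 hbb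
  simp only at hj
  have hfix : b * (b * b) * b⁻¹ = b * b := by group
  rw [← hj, ← conj_pow, hinv, inv_pow] at hfix
  have hsq : a ^ (2 * j) = 1 := by
    rw [two_mul, pow_add]
    exact mul_eq_one_iff_eq_inv.2 hfix.symm
  have h2j := orderOf_dvd_of_pow_eq_one hsq
  rw [h4] at h2j
  rw [← pow_mod_orderOf, h4] at hj
  rcases (show j % 4 = 0 ∨ j % 4 = 2 by omega) with e | e <;> rw [e] at hj
  · left
    exact CfsgLib.TwoGroups.nonempty_mulEquiv_dihedralGroup h4 (by rw [← hj, pow_zero]) hb hinv
      (by rw [h])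
  · right
    exact CfsgLib.TwoGroups.nonempty_mulEquiv_quaternionGroup (by rw [h4]) hj.symm hb hinv (by rw [h])

/-- In a commutative group of order eight two squares different from one are equal. -/
theorem square_unique {T : Type*} [Group T] (h : Nat.card T = 8) (hc : ∀ a b : T, a * b = b * a)
    {a b : T} (ha : a ^ 4 = 1) (hb : b ^ 4 = 1) (ha2 : a * a ≠ 1) (hb2 : b * b ≠ 1) :
    a * a = b * b := by
  classical
  have : Finite T := Nat.finite_of_card_ne_zero (by omega)
  have := Fintype.ofFinite T
  by_contra hne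
  let sq : T →* T :=
    { toFun := fun t => t * t
      map_one' := one_mul 1
      map_mul' := fun s t => by rw [mul_assoc, ← mul_assoc t, hc t s, mul_assoc s, ← mul_assoc] }
  have hz : a * a * (a * a) = 1 := by rw [← ha]; simp [pow_succ, mul_assoc]
  have hw : b * b * (b * b) = 1 := by rw [← hb]; simp [pow_succ, mul_assoc]
  have hzw : a * a * (b * b) ≠ 1 := fun e => hne (mul_right_cancel (e.trans hw.symm))
  have hzwz : a * a * (b * b) ≠ a * a := fun e => hb2 (mul_eq_left.1 e)
  have hzww : a * a * (b * b) ≠ b * b := fun e => ha2 (mul_eq_right.1 e)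
  set F : Finset T := {1, a * a, b * b, a * a * (b * b)} with hF
  have hF4 : F.card = 4 := by
    rw [hF, Finset.card_insert_of_notMem, Finset.card_insert_of_notMem, Finset.card_insert_of_notMem,
      Finset.card_singleton] <;>
      simp [hne, Ne.symm ha2, Ne.symm hb2, Ne.symm hzw, Ne.symm hzwz, Ne.symm hzww]
  have hk : 4 ≤ Nat.card sq.ker := by
    rw [← hF4, ← Nat.card_eq_finsetCard]
    refine Nat.card_le_card_of_injective (fun t => (⟨t.1, ?_⟩ : sq.ker))
      fun s t e => Subtype.ext (congrArg (fun u : sq.ker => (u : T)) e)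
    rw [MonoidHom.mem_ker]
    have h1 := t.2
    simp only [hF, Finset.mem_insert, Finset.mem_singleton] at h1
    rcases h1 with e | e | e | e <;> rw [e]
    · exact one_mul 1
    · exact hz
    · exact hw
    · show sq (a * a * (b * b)) = 1
      rw [map_mul]
      show a * a * (a * a) * (b * b * (b * b)) = 1
      rw [hz, hw, one_mul]
  have hr : 4 ≤ Nat.card sq.range := by
    rw [← hF4, ← Nat.card_eq_finsetCard]
    refine Nat.card_le_card_of_injective (fun t => (⟨t.1, ?_⟩ : sq.range))
      fun s t e => Subtype.ext (congrArg (fun u : sq.range => (u : T)) e)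
    have h1 := t.2
    simp only [hF, Finset.mem_insert, Finset.mem_singleton] at h1
    rcases h1 with e | e | e | e <;> rw [e]
    · exact one_mem _
    · exact ⟨a, rfl⟩
    · exact ⟨b, rfl⟩
    · exact mul_mem ⟨a, rfl⟩ ⟨b, rfl⟩
  have h8 := card_mul_index sq.ker
  rw [index_ker, h] at h8
  have := Nat.mul_le_mul hk hr
  omega

end CfsgLib.Perm.Alt2520
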