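import Cfsg.Agent.Lib.Perm.Alt2520.Axis

/-!
# A simple group of order 2520: the four-group of an axis
-/

set_option autoImplicit false

namespace CfsgLib.Perm.Alt2520

open Subgroup

variable {G : Type*} [Group G] [Finite G] [IsSimpleGroup G] (H : Hyp G)

omit [Finite G] [IsSimpleGroup G] in
theorem Frame.inV {x c a b : G} (F : Frame x c a b) : InV x c ∧ InV x a ∧ InV x (c * a) := by
  refine ⟨⟨F.hc, F.hcx⟩, ⟨F.ha, F.hax⟩, ?_, ?_⟩
  · refine orderOf_eq_prime ?_ fun h => F.hne (mul_right_cancel (h.trans (mul_self_of_two F.ha).symm))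
    rw [Commute.mul_pow F.hca, pow_two, pow_two, mul_self_of_two F.hc, mul_self_of_two F.ha, one_mul]
  · exact (Commute.mul_left F.hcx F.hax).eq

include H

theorem Hyp.inV_cases_frame {x c a b u : G} (hx : orderOf x = 3) (F : Frame x c a b) (hu : InV x u) :
    u = c ∨ u = a ∨ u = c * a := by
  classical
  by_contra hcon
  push Not at hcon
  obtain ⟨h1, h2, h3⟩ := F.inV
  have e1 : c * a ≠ c := fun h => ne_one_of_two F.ha (mul_eq_left.1 h)
  have e2 : c * a ≠ a := fun h => ne_one_of_two F.hc (mul_eq_right.1 h)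
  have hle := H.ncard_le_three hx h1 (T := {c, a, c * a, u}) (by
    intro v hv
    simp only [Finset.mem_insert, Finset.mem_singleton] at hv
    rcases hv with rfl | rfl | rfl | rfl <;> assumption)
  rw [Finset.card_insert_of_notMem, Finset.card_insert_of_notMem, Finset.card_insert_of_notMem,
    Finset.card_singleton] at hle <;>
    simp [F.hne, e1.symm, e2.symm, hcon.1.symm, hcon.2.1.symm, hcon.2.2.symm] at hle ⊢

theorem Hyp.exists_frame_at {x u : G} (hx : Axial x) (hu : InV x u) : ∃ a b, Frame x u a b := by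
  obtain ⟨c, a, b, F⟩ := H.exists_frame hx
  obtain ⟨g, hg⟩ := isConj_iff.1 (H.all_conj c u F.hc hu.1)
  have hgM := H.mem_normalizer_of_two hx.1 F.inV.1 hu hg
  have hgx : g * x * g⁻¹ ∈ zpowers x := (mem_normalizer_iff.1 hgM x).1 (mem_zpowers x)
  have hpm : g * x * g⁻¹ = x ∨ g * x * g⁻¹ = x⁻¹ := by
    rcases three_cases hx.1 hgx with h | h | h
    · exact absurd (conj_eq_one_iff.1 h) fun e => by have := hx.1; rw [e, orderOf_one] at this; omega
    · exact Or.inl h
    · exact Or.inr h
  refine ⟨g * a * g⁻¹, g * b * g⁻¹, ?_⟩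
  refine
    { hc := hu.1
      ha := (orderOf_conj_eq _ _).trans F.ha
      hb := (orderOf_conj_eq _ _).trans F.hb
      hne := fun h => F.hne ((MulAut.conj g).injective (hg.trans h))
      hca := hg ▸ conj_comm g F.hca
      hcx := hu.2
      hax := ?_
      hbc := hg ▸ conj_comm g F.hbc
      hbx := ?_
      hba := ?_ }
  · have h := conj_comm g F.hax
    rcases hpm with e | e <;> rw [e] at h
    · exact h
    · exact (Commute.inv_right_iff.1 h).eq
  · have h : g * b * g⁻¹ * (g * x * g⁻¹) * (g * b * g⁻¹)⁻¹ = (g * x * g⁻¹)⁻¹ := by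
      calc _ = g * (b * x * b⁻¹) * g⁻¹ := by group
        _ = g * x⁻¹ * g⁻¹ := by rw [F.hbx]
        _ = _ := by group
    rcases hpm with e | e <;> rw [e] at h
    · exact h
    · rw [inv_inv] at h
      calc g * b * g⁻¹ * x * (g * b * g⁻¹)⁻¹ = (g * b * g⁻¹ * x⁻¹ * (g * b * g⁻¹)⁻¹)⁻¹ := by group
        _ = x⁻¹ := by rw [h]
  · calc _ = g * (b * a * b⁻¹) * g⁻¹ := by group
      _ = g * (c * a) * g⁻¹ := by rw [F.hba]
      _ = _ := by rw [← hg, conj_mul]

theorem Hyp.inV_comm {x u v : G} (hx : Axial x) (hu : InV x u) (hv : InV x v) : u * v = v * u := by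
  obtain ⟨a, b, F⟩ := H.exists_frame_at hx hu
  rcases H.inV_cases_frame hx.1 F hv with rfl | rfl | rfl
  · rfl
  · exact F.hca
  · rw [mul_assoc, F.hca]

theorem Hyp.inV_mul {x u v : G} (hx : Axial x) (hu : InV x u) (hv : InV x v) (hne : u ≠ v) :
    InV x (u * v) := by
  refine ⟨orderOf_eq_prime ?_ fun h => hne (mul_right_cancel (h.trans (mul_self_of_two hv.1).symm)),
    (Commute.mul_left hu.2 hv.2).eq⟩
  rw [Commute.mul_pow (H.inV_comm hx hu hv), pow_two, pow_two, mul_self_of_two hu.1,
    mul_self_of_two hv.1, one_mul]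

theorem Hyp.inV_cases {x u v z : G} (hx : Axial x) (hu : InV x u) (hv : InV x v) (hne : u ≠ v)
    (hz : InV x z) : z = u ∨ z = v ∨ z = u * v := by
  classical
  by_contra hcon
  push Not at hcon
  have h3 := H.inV_mul hx hu hv hne
  have e1 : u * v ≠ u := fun h => ne_one_of_two hv.1 (mul_eq_left.1 h)
  have e2 : u * v ≠ v := fun h => ne_one_of_two hu.1 (mul_eq_right.1 h)
  have hle := H.ncard_le_three hx.1 hu (T := {u, v, u * v, z}) (by
    intro w hw
    simp only [Finset.mem_insert, Finset.mem_singleton] at hw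
    rcases hw with rfl | rfl | rfl | rfl <;> assumption)
  rw [Finset.card_insert_of_notMem, Finset.card_insert_of_notMem, Finset.card_insert_of_notMem,
    Finset.card_singleton] at hle <;>
    simp [hne, e1.symm, e2.symm, hcon.1.symm, hcon.2.1.symm, hcon.2.2.symm] at hle ⊢

/-- The common centralizer of the axis and one of its involutions. -/
theorem Hyp.decompose {x u g : G} (hx : Axial x) (hu : InV x u) (hgu : g * u = u * g)
    (hgx : g * x = x * g) : ∃ (i : ℕ) (v : G), (v = 1 ∨ InV x v) ∧ g = x ^ i * v := by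
  classical
  obtain ⟨a, b, F⟩ := H.exists_frame_at hx hu
  obtain ⟨hu', ha', hua'⟩ := F.inV
  set K := centralizer ({u} : Set G) ⊓ centralizer ({x} : Set G) with hK
  have h24 := H.card_centralizer_involution hu.1
  have hKle : Nat.card K ≤ 12 := by
    have hd : Nat.card K ∣ 24 := h24 ▸ card_dvd_of_le inf_le_left
    have hne : Nat.card K ≠ 24 := fun e => by
      have hb : b ∈ K := (eq_of_le_of_card_ge inf_le_left (by rw [h24, e])).ge
        (mem_centralizer_singleton_iff.2 F.hbc)
      have := F.hbx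
      rw [mem_centralizer_singleton_iff.1 (mem_inf.1 hb).2, mul_inv_cancel_right,
        eq_inv_iff_mul_eq_one, ← pow_two] at this
      have h2 := Nat.le_of_dvd (by norm_num) (orderOf_dvd_of_pow_eq_one this)
      rw [hx.1] at h2
      omega
    have := Nat.le_of_dvd (by norm_num) hd
    by_contra hlt
    obtain ⟨q, hq⟩ := hd
    have hq1 : q ≠ 1 := fun e => hne (by rw [hq, e, mul_one])
    rcases q with _ | _ | q
    · omega
    · omega
    · have := Nat.mul_le_mul (show 13 ≤ Nat.card K by omega) (show 2 ≤ q + 1 + 1 by omega)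
      omega
  set F4 : Finset G := {1, u, a, u * a} with hF4
  have hF4m : ∀ v ∈ F4, (v = 1 ∨ InV x v) := by
    intro v hv
    simp only [hF4, Finset.mem_insert, Finset.mem_singleton] at hv
    rcases hv with rfl | rfl | rfl | rfl
    exacts [Or.inl rfl, Or.inr hu', Or.inr ha', Or.inr hua']
  have hF4c : F4.card = 4 := by
    have e1 : u * a ≠ u := fun h => ne_one_of_two F.ha (mul_eq_left.1 h)
    have e2 : u * a ≠ a := fun h => ne_one_of_two hu.1 (mul_eq_right.1 h)
    rw [hF4, Finset.card_insert_of_notMem, Finset.card_insert_of_notMem, Finset.card_insert_of_notMem,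
      Finset.card_singleton] <;>
      simp [F.hne, e1.symm, e2.symm, (ne_one_of_two hu.1).symm, (ne_one_of_two F.ha).symm,
        (ne_one_of_two hua'.1).symm]
  have hsq : ∀ v ∈ F4, v * v = 1 ∧ v * x = x * v ∧ v * u = u * v := fun v hv => by
    rcases hF4m v hv with rfl | hv'
    · simp
    · exact ⟨mul_self_of_two hv'.1, hv'.2, H.inV_comm hx hv' hu⟩
  have hcomm : ∀ v ∈ F4, ∀ w ∈ F4, v * w = w * v := fun v hv w hw => by
    rcases hF4m v hv with rfl | hv'
    · simp
    rcases hF4m w hw with rfl | hw'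
    · simp
    · exact H.inV_comm hx hv' hw'
  set T := (Finset.range 3 ×ˢ F4).image fun p => x ^ p.1 * p.2 with hT
  have hTc : T.card = 12 := by
    rw [hT, Finset.card_image_of_injOn, Finset.card_product, Finset.card_range, hF4c]
    rintro ⟨i, v⟩ hp ⟨j, w⟩ hq he
    simp only [Finset.coe_product, Set.mem_prod, Finset.mem_coe, Finset.mem_range] at hp hq
    simp only at he
    obtain ⟨hv2, hvx, -⟩ := hsq v hp.2
    obtain ⟨hw2, hwx, -⟩ := hsq w hq.2
    have h2 : ∀ (k : ℕ) (z : G), z * z = 1 → z * x = x * z → (x ^ k * z) ^ 2 = x ^ (2 * k) := fun k z hz hzx => by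
      rw [Commute.mul_pow ((Commute.pow_right hzx k).symm), pow_two z, hz, mul_one, ← pow_mul, mul_comm]
    have hij := h2 i v hv2 hvx
    rw [he, h2 j w hw2 hwx, pow_eq_pow_iff_modEq, hx.1] at hij
    obtain rfl : i = j := by unfold Nat.ModEq at hij; omega
    rw [mul_left_cancel he]
  have hTK : ∀ z ∈ T, z ∈ K := by
    intro z hz
    obtain ⟨⟨i, v⟩, hp, rfl⟩ := Finset.mem_image.1 hz
    simp only [Finset.mem_product] at hp
    obtain ⟨-, hvx, hvu⟩ := hsq v hp.2
    exact mem_inf.2 ⟨mem_centralizer_singleton_iff.2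
      (((Commute.pow_left (hu.2 : Commute u x).symm i)).mul_left hvu).eq,
      mem_centralizer_singleton_iff.2 ((Commute.pow_self x i).mul_left hvx).eq⟩
  have hgT : g ∈ T := by
    by_contra hgn
    have hgK : g ∈ K := mem_inf.2 ⟨mem_centralizer_singleton_iff.2 hgu, mem_centralizer_singleton_iff.2 hgx⟩
    have h13 : (insert g T).card ≤ Nat.card K := by
      rw [← Nat.card_eq_finsetCard]
      exact Nat.card_le_card_of_injective (fun z => (⟨z.1, by
        rcases Finset.mem_insert.1 z.2 with e | e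
        · rw [e]; exact hgK
        · exact hTK _ e⟩ : K)) fun p q e => Subtype.ext (congrArg (fun z : K => (z : G)) e)
    rw [Finset.card_insert_of_notMem hgn, hTc] at h13
    omega
  obtain ⟨⟨i, v⟩, hp, rfl⟩ := Finset.mem_image.1 hgT
  simp only [Finset.mem_product] at hp
  exact ⟨i, v, hF4m v hp.2, rfl⟩

/-- An element inverting the axis commutes with at most one of its involutions. -/
theorem Hyp.inV_unique {x g u v : G} (hx : Axial x) (hg : g * x * g⁻¹ = x⁻¹) (hu : InV x u)
    (hv : InV x v) (hgu : g * u = u * g) (hgv : g * v = v * g) : u = v := by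
  by_contra hne
  obtain ⟨a, b, F⟩ := H.exists_frame_at hx hu
  have hqx : g * b * x = x * (g * b) := by
    refine mul_inv_eq_iff_eq_mul.1 ?_
    calc g * b * x * (g * b)⁻¹ = g * (b * x * b⁻¹) * g⁻¹ := by group
      _ = g * x⁻¹ * g⁻¹ := by rw [F.hbx]
      _ = (g * x * g⁻¹)⁻¹ := by group
      _ = x := by rw [hg, inv_inv]
  obtain ⟨i, w, hw, he⟩ := H.decompose hx hu
    (Commute.mul_left hgu F.hbc).eq hqx
  have hwv : Commute (x ^ i * w) v := by
    refine Commute.mul_left (Commute.pow_left (hv.2 : Commute v x).symm i) ?_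
    rcases hw with rfl | hw'
    · exact Commute.one_left v
    · exact H.inV_comm hx hw' hv
  have hbv : Commute b v := by
    have h1 : b = g⁻¹ * (x ^ i * w) := by rw [← he, inv_mul_cancel_left]
    rw [h1]
    exact Commute.mul_left (Commute.inv_left hgv) hwv
  have hfix : ∀ z, InV x z → b * z = z * b := by
    intro z hz
    rcases H.inV_cases hx hu hv hne hz with rfl | rfl | rfl
    · exact F.hbc
    · exact hbv.eq
    · exact (Commute.mul_right F.hbc hbv).eq
  have h1 := F.hba
  rw [hfix a F.inV.2.1, mul_inv_cancel_right] at h1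
  exact ne_one_of_two hu.1 (mul_eq_right.1 h1.symm)

/-- An involution inverting the axis commutes with one of its involutions. -/
theorem Hyp.exists_inV_comm {x s : G} (hx : Axial x) (hs : orderOf s = 2) (hsx : s * x * s⁻¹ = x⁻¹) :
    ∃ v, InV x v ∧ s * v = v * s := by
  obtain ⟨c, a, b, F⟩ := H.exists_frame hx
  have hc := F.inV.1
  by_cases h : s * c * s⁻¹ = c
  · exact ⟨c, hc, mul_inv_eq_iff_eq_mul.1 h⟩
  · have hd : InV x (s * c * s⁻¹) := by
      refine ⟨(orderOf_conj_eq _ _).trans hc.1, ?_⟩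
      have h1 := conj_comm s hc.2
      rw [hsx] at h1
      exact (Commute.inv_right_iff.1 h1).eq
    refine ⟨c * (s * c * s⁻¹), H.inV_mul hx hc hd (Ne.symm h), mul_inv_eq_iff_eq_mul.1 ?_⟩
    have hss := mul_self_of_two hs
    calc s * (c * (s * c * s⁻¹)) * s⁻¹ = s * c * s⁻¹ * ((s * s) * c * (s * s)⁻¹) := by group
      _ = s * c * s⁻¹ * c := by rw [hss]; group
      _ = c * (s * c * s⁻¹) := H.inV_comm hx hd hc

/-- An element of order three commuting with the axis and one of its involutions lies in it. -/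
theorem Hyp.mem_of_comm {x y u : G} (hx : Axial x) (hu : InV x u) (hy : orderOf y = 3)
    (huy : u * y = y * u) : y ∈ zpowers x :=
  H.mem_core hu.1 hy hx.1 huy hu.2

end CfsgLib.Perm.Alt2520
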