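import Cfsg.Agent.Lib.Perm.Alt2520.Four

/-!
# A simple group of order 2520: two commuting axes
-/

set_option autoImplicit false

namespace CfsgLib.Perm.Alt2520

open Subgroup

/-- Two commuting axes with an involution inverting both. -/
structure Pair {G : Type*} [Group G] (x y s : G) : Prop where
  hx : Axial x
  hy : Axial y
  hxy : x * y = y * x
  hne : y ∉ zpowers x
  hs : orderOf s = 2
  hsx : s * x * s⁻¹ = x⁻¹
  hsy : s * y * s⁻¹ = y⁻¹
  line : ∀ g : G, g * x * g⁻¹ * x = x * (g * x * g⁻¹) → g * x * g⁻¹ * y = y * (g * x * g⁻¹) →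
    g * x * g⁻¹ ∈ zpowers x ∨ g * x * g⁻¹ ∈ zpowers y

variable {G : Type*} [Group G] [Finite G] [IsSimpleGroup G] (H : Hyp G)

omit [Finite G] [IsSimpleGroup G] in
theorem Axial.conj {x : G} (hx : Axial x) (g : G) : Axial (g * x * g⁻¹) := by
  obtain ⟨h3, t, ht, htx⟩ := hx
  exact ⟨(orderOf_conj_eq g x).trans h3, g * t * g⁻¹, (orderOf_conj_eq g t).trans ht, conj_comm g htx⟩

omit [Finite G] [IsSimpleGroup G] in
theorem Axial.ne_one {x : G} (hx : Axial x) : x ≠ 1 := fun e => by
  have := hx.1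
  rw [e, orderOf_one] at this
  omega

include H

theorem Hyp.exists_axial : ∃ x : G, Axial x := by
  obtain ⟨S⟩ := (inferInstance : Nonempty (Sylow 2 G))
  obtain ⟨f, hf, -⟩ := H.exists_model S
  have ht : orderOf (f (DihedralGroup.sr 0)) = 2 := by
    rw [orderOf_injective f hf, DihedralGroup.orderOf_sr]
  obtain ⟨-, w, hw, htw, -⟩ := H.exists_core_normal ht
  exact ⟨w, hw, _, ht, htw⟩

theorem Hyp.not_comm_of_normalizes (P : Sylow 3 G) {z p s : G} (hz : Axial z)
    (hzP : z ∈ (P : Subgroup G)) (hpP : p ∈ (P : Subgroup G)) (hp : orderOf p = 3)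
    (hpz : p ∉ zpowers z) (hs : InV z s) (hsN : s ∈ normalizer ((P : Subgroup G) : Set G)) : False := by
  have hps : InV z (p * s * p⁻¹) := by
    refine ⟨(orderOf_conj_eq p s).trans hs.1, ?_⟩
    have h1 := conj_comm p hs.2
    rwa [H.mem_sylow_comm P hpP hzP, mul_inv_cancel_right] at h1
  set q := s * (p * s * p⁻¹) with hq
  have hqP : q ∈ (P : Subgroup G) := by
    have he : q = s * p * s⁻¹ * p⁻¹ := by
      rw [hq, show s⁻¹ = s from inv_eq_of_mul_eq_one_right (mul_self_of_two hs.1)]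
      group
    rw [he]
    exact mul_mem ((mem_normalizer_iff.1 hsN p).1 hpP) (inv_mem hpP)
  have hq2 : q ^ 2 = 1 := by
    rw [hq, Commute.mul_pow (H.inV_comm hz hs hps), pow_two, pow_two, mul_self_of_two hs.1,
      mul_self_of_two hps.1, one_mul]
  have hd : orderOf q ∣ 9 := H.card_sylow_three P ▸ Subgroup.orderOf_dvd_natCard _ hqP
  have hq1 : q = 1 := orderOf_eq_one_iff.1
    (Nat.eq_one_of_dvd_coprimes (show Nat.Coprime 2 9 by norm_num) (orderOf_dvd_of_pow_eq_one hq2) hd)
  refine hpz (H.mem_of_comm hz hs hp ?_)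
  rw [hq] at hq1
  have h1 : p * s * p⁻¹ = s := by
    rw [eq_inv_of_mul_eq_one_right hq1, inv_eq_of_mul_eq_one_right (mul_self_of_two hs.1)]
  exact (mul_inv_eq_iff_eq_mul.1 h1).symm

set_option maxHeartbeats 400000 in
theorem Hyp.exists_pair : ∃ x y s : G, Pair x y s := by
  classical
  have : Fact (Nat.Prime 3) := ⟨Nat.prime_three⟩
  obtain ⟨x, hx⟩ := H.exists_axial
  obtain ⟨P, hP⟩ := (IsPGroup.of_card (n := 1) (by rw [Nat.card_zpowers, hx.1, pow_one]) :
    IsPGroup 3 (zpowers x)).exists_le_sylow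
  have hxP : x ∈ (P : Subgroup G) := hP (mem_zpowers x)
  set M := normalizer (zpowers x : Set G) with hM
  set N := normalizer ((P : Subgroup G) : Set G) with hN
  have hM72 : Nat.card M = 72 := H.card_normalizer_axis hx
  have hP9 := H.card_sylow_three P
  have hPcomm : IsMulCommutative (P : Subgroup G) :=
    ⟨⟨fun a b => Subtype.ext (H.mem_sylow_comm P a.2 b.2)⟩⟩
  have hPM : (P : Subgroup G) ≤ M := fun g hg => mem_normalizer_zpowers (by
    rw [H.mem_sylow_comm P hg hxP, mul_inv_cancel_right]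
    exact mem_zpowers x)
  have hn := CfsgLib.Perm.card_normalizer_mul_card_sylow P
  rw [← hN, H.card] at hn
  have hmod : Nat.card (Sylow 3 G) % 3 = 1 := by
    have h0 := card_sylow_modEq_one 3 G
    rwa [Nat.ModEq, Nat.one_mod] at h0
  have h8 : 8 ≤ Nat.card (Sylow 3 G) := by
    rw [P.card_eq_index_normalizer]
    refine H.eight_le_index (normalizer_ne_top (P.ne_bot_of_dvd_card (by rw [H.card]; norm_num)) fun h => ?_)
    rw [h, card_top, H.card] at hP9
    omega
  -- the part inside the normalizer of the axis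
  set Q : Sylow 3 M := P.subtype hPM with hQ
  have hQn : normalizer ((Q : Subgroup M) : Set M) = N.subgroupOf M := by
    rw [hQ, Sylow.coe_subtype, hN]
    exact (subgroupOf_normalizer_eq hPM).symm
  have hQmul := CfsgLib.Perm.card_normalizer_mul_card_sylow Q
  have hi18 : Nat.card ↥(N ⊓ M) = 18 := by
    have hcard : Nat.card (N.subgroupOf M) = Nat.card ↥(N ⊓ M) := by
      rw [← card_map_of_injective M.subtype_injective, subgroupOf_map_subtype]
    rw [hQn, hcard, hM72] at hQmul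
    have hd8 : Nat.card (Sylow 3 M) ∣ 8 :=
      CfsgLib.Perm.card_sylow_dvd_of_card_eq (k := 2) (m := 8) (by rw [hM72]; norm_num)
    have hmodM : Nat.card (Sylow 3 M) % 3 = 1 := by
      have h0 := card_sylow_modEq_one 3 M
      rwa [Nat.ModEq, Nat.one_mod] at h0
    have hle := Nat.le_of_dvd (by norm_num) hd8
    have h14 : Nat.card (Sylow 3 M) = 1 ∨ Nat.card (Sylow 3 M) = 4 := by
      have h1 := Nat.mem_divisors.2 ⟨hd8, by norm_num⟩
      rw [show (8 : ℕ).divisors = ({1, 2, 4, 8} : Finset ℕ) from by decide +kernel] at h1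
      simp only [Finset.mem_insert, Finset.mem_singleton] at h1
      omega
    rcases h14 with e | e
    · exfalso
      rw [e, mul_one] at hQmul
      have h72 : 72 ∣ Nat.card N := hQmul ▸ card_dvd_of_le inf_le_left
      obtain ⟨j, hj⟩ := h72
      rw [hj] at hn
      have hd : Nat.card (Sylow 3 G) ∣ 35 := ⟨j, by
        have h1 : 72 * (j * Nat.card (Sylow 3 G)) = 72 * 35 := by rw [← mul_assoc, hn]
        rw [mul_comm]
        omega⟩
      have h1 := Nat.mem_divisors.2 ⟨hd, by norm_num⟩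
      rw [show (35 : ℕ).divisors = ({1, 5, 7, 35} : Finset ℕ) from by decide +kernel] at h1
      simp only [Finset.mem_insert, Finset.mem_singleton] at h1
      omega
    · rw [e] at hQmul
      omega
  obtain ⟨m, hmN, hmM⟩ : ∃ m ∈ N, m ∉ M := by
    by_contra hcon
    push Not at hcon
    rw [inf_eq_left.2 hcon] at hi18
    rw [hi18] at hn
    omega
  set y := m * x * m⁻¹ with hy
  have hyA : Axial y := hx.conj m
  have hyP : y ∈ (P : Subgroup G) := (mem_normalizer_iff.1 hmN x).1 hxP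
  have hyne : y ∉ zpowers x := fun h => hmM (mem_normalizer_zpowers h)
  have hxne : x ∉ zpowers y := fun h => hyne (zpowers_eq_of_three hyA.1 hx.1 h ▸ mem_zpowers y)
  -- an involution
  obtain ⟨s, hs, hsN, hsM⟩ : ∃ s, orderOf s = 2 ∧ s ∈ N ∧ s ∈ M := by
    have : Fact (Nat.Prime 2) := ⟨Nat.prime_two⟩
    obtain ⟨s, hs⟩ := exists_prime_orderOf_dvd_card' (G := ↥(N ⊓ M)) 2 (by rw [hi18]; norm_num)
    exact ⟨s, by rw [Subgroup.orderOf_coe, hs], (mem_inf.1 s.2).1, (mem_inf.1 s.2).2⟩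
  have hsx : s * x * s⁻¹ = x⁻¹ := by
    rcases three_cases hx.1 ((mem_normalizer_iff.1 hsM x).1 (mem_zpowers x)) with h | h | h
    · exact absurd (conj_eq_one_iff.1 h) hx.ne_one
    · exact (H.not_comm_of_normalizes P hx hxP hyP hyA.1 hyne
        ⟨hs, mul_inv_eq_iff_eq_mul.1 h⟩ hsN).elim
    · exact h
  -- the conjugates of the axis under the normalizer
  letI act : MulAction N G := MulAction.compHom G (ConjAct.toConjAct.toMonoidHom.comp N.subtype)
  have hact : ∀ (g : N) (v : G), g • v = (g : G) * v * (g : G)⁻¹ := fun g v => rfl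
  have hCN : Nat.card ↥(N ⊓ centralizer ({x} : Set G)) = 9 := by
    have hle : N ⊓ centralizer ({x} : Set G) ≤ N ⊓ M := fun g hg =>
      mem_inf.2 ⟨(mem_inf.1 hg).1, mem_normalizer_zpowers (by
        rw [mem_centralizer_singleton_iff.1 (mem_inf.1 hg).2, mul_inv_cancel_right]
        exact mem_zpowers x)⟩
    have h9 : 9 ∣ Nat.card ↥(N ⊓ centralizer ({x} : Set G)) :=
      hP9 ▸ card_dvd_of_le (le_inf le_normalizer fun g hg =>
        mem_centralizer_singleton_iff.2 (H.mem_sylow_comm P hg hxP))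
    have hd : Nat.card ↥(N ⊓ centralizer ({x} : Set G)) ∣ 18 := hi18 ▸ card_dvd_of_le hle
    have hne18 : Nat.card ↥(N ⊓ centralizer ({x} : Set G)) ≠ 18 := fun e => by
      have hsC := ((eq_of_le_of_card_ge hle (by rw [hi18, e])).ge (mem_inf.2 ⟨hsN, hsM⟩) :
        s ∈ N ⊓ centralizer ({x} : Set G))
      rw [mem_centralizer_singleton_iff.1 (mem_inf.1 hsC).2, mul_inv_cancel_right, eq_inv_iff_mul_eq_one,
        ← pow_two] at hsx
      have := Nat.le_of_dvd (by norm_num) (orderOf_dvd_of_pow_eq_one hsx)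
      rw [hx.1] at this
      omega
    have := Nat.le_of_dvd (by norm_num) hd
    have hpos : 0 < Nat.card ↥(N ⊓ centralizer ({x} : Set G)) := Nat.card_pos
    obtain ⟨j, hj⟩ := h9
    omega
  have hstab : Nat.card (MulAction.stabilizer N x) = 9 := by
    rw [← hCN]
    refine Nat.card_congr
      { toFun := fun g => ⟨((g : N) : G), mem_inf.2 ⟨g.1.2, mem_centralizer_singleton_iff.2
          (mul_inv_eq_iff_eq_mul.1 ((hact g.1 x).symm.trans g.2))⟩⟩
        invFun := fun g => ⟨⟨g, (mem_inf.1 g.2).1⟩,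
          (hact _ x).trans (mul_inv_eq_iff_eq_mul.2 (mem_centralizer_singleton_iff.1 (mem_inf.1 g.2).2))⟩
        left_inv := fun g => rfl
        right_inv := fun g => rfl }
  have hsub : MulAction.orbit N x ⊆ ((P : Subgroup G) : Set G) \ {1} := by
    rintro _ ⟨g, rfl⟩
    exact ⟨(mem_normalizer_iff.1 g.2 x).1 hxP, fun e => hx.ne_one (conj_eq_one_iff.1 e)⟩
  have h8' : (((P : Subgroup G) : Set G) \ {1}).ncard = 8 := by
    rw [Set.ncard_sdiff_singleton_of_mem (one_mem _), ← Nat.card_coe_set_eq]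
    exact congrArg (fun k => k - 1) hP9
  have ho4 : (MulAction.orbit N x).ncard = 4 := by
    have hidx := card_mul_index (MulAction.stabilizer N x)
    rw [hstab, MulAction.index_stabilizer] at hidx
    have hle := Set.ncard_le_ncard hsub (Set.toFinite _)
    rw [h8'] at hle
    obtain ⟨j, hj⟩ : 18 ∣ Nat.card N := hi18 ▸ card_dvd_of_le inf_le_left
    rw [← hidx] at hn hj
    have hN18 : Nat.card ↥(N ⊓ M) < Nat.card N := by
      by_contra hge
      exact hmM ((eq_of_le_of_card_ge inf_le_left (not_lt.1 hge)).ge hmN |> fun h => (mem_inf.1 h).2)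
    rw [hi18, ← hidx] at hN18
    generalize (MulAction.orbit N x).ncard = o at hle hn hj hN18
    interval_cases o <;> omega
  set O : Finset G := {x, x⁻¹, y, y⁻¹} with hO
  have hxi : x⁻¹ ≠ x := fun e => by
    rw [inv_eq_iff_mul_eq_one, ← pow_two] at e
    have := Nat.le_of_dvd (by norm_num) (orderOf_dvd_of_pow_eq_one e)
    rw [hx.1] at this
    omega
  have hyi : y⁻¹ ≠ y := fun e => by
    rw [inv_eq_iff_mul_eq_one, ← pow_two] at e
    have := Nat.le_of_dvd (by norm_num) (orderOf_dvd_of_pow_eq_one e)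
    rw [hyA.1] at this
    omega
  have e1 : y ≠ x := fun e => hyne (e ▸ mem_zpowers x)
  have e2 : y ≠ x⁻¹ := fun e => hyne (e ▸ inv_mem (mem_zpowers x))
  have e3 : y⁻¹ ≠ x := fun e => e2 (by rw [← e, inv_inv])
  have e4 : y⁻¹ ≠ x⁻¹ := fun e => e1 (inv_injective e)
  have hO4 : O.card = 4 := by
    rw [hO, Finset.card_insert_of_notMem, Finset.card_insert_of_notMem, Finset.card_insert_of_notMem,
      Finset.card_singleton] <;>
      simp [hxi.symm, hyi.symm, e1.symm, e2.symm, e3.symm, e4.symm]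
  have horb : MulAction.orbit N x = (O : Set G) := by
    refine (Set.eq_of_subset_of_ncard_le ?_ (by rw [ho4, Set.ncard_coe_finset, hO4]) (Set.toFinite _)).symm
    intro v hv
    simp only [hO, Finset.coe_insert, Finset.coe_singleton, Set.mem_insert_iff, Set.mem_singleton_iff] at hv
    rcases hv with h | h | h | h <;> rw [h]
    · exact MulAction.mem_orbit_self x
    · exact ⟨⟨s, hsN⟩, hsx⟩
    · exact ⟨⟨m, hmN⟩, rfl⟩
    · refine ⟨⟨m * s, mul_mem hmN hsN⟩, ?_⟩
      show m * s * x * (m * s)⁻¹ = y⁻¹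
      calc m * s * x * (m * s)⁻¹ = m * (s * x * s⁻¹) * m⁻¹ := by group
        _ = m * x⁻¹ * m⁻¹ := by rw [hsx]
        _ = y⁻¹ := by rw [hy]; group
  have hline : ∀ g : N, (g : G) * x * (g : G)⁻¹ = x ∨ (g : G) * x * (g : G)⁻¹ = x⁻¹ ∨
      (g : G) * x * (g : G)⁻¹ = y ∨ (g : G) * x * (g : G)⁻¹ = y⁻¹ := fun g => by
    have h1 : g • x ∈ (O : Set G) := horb ▸ MulAction.mem_orbit x g
    rw [hact] at h1
    simpa [hO] using h1
  have hsy : s * y * s⁻¹ = y⁻¹ := by
    have h1 := hline ⟨s * m, mul_mem hsN hmN⟩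
    have h2 : s * m * x * (s * m)⁻¹ = s * y * s⁻¹ := by rw [hy]; group
    simp only at h1
    rw [h2] at h1
    have hss : s⁻¹ = s := inv_eq_of_mul_eq_one_right (mul_self_of_two hs)
    have hback : ∀ v, s * y * s⁻¹ = v → y = s * v * s⁻¹ := fun v hv => by
      calc y = (s * s) * y * (s * s)⁻¹ := by rw [mul_self_of_two hs]; group
        _ = s * (s * y * s⁻¹) * s⁻¹ := by group
        _ = _ := by rw [hv]
    rcases h1 with h | h | h | h
    · exact absurd ((hback _ h).trans hsx) e2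
    · refine absurd ((hback _ h).trans ?_) e1
      calc s * x⁻¹ * s⁻¹ = (s * x * s⁻¹)⁻¹ := by group
        _ = x := by rw [hsx, inv_inv]
    · exact (H.not_comm_of_normalizes P hyA hyP hxP hx.1 hxne ⟨hs, mul_inv_eq_iff_eq_mul.1 h⟩ hsN).elim
    · exact h
  refine ⟨x, y, s, hx, hyA, H.mem_sylow_comm P hxP hyP, hyne, hs, hsx, hsy, fun g hgx hgy => ?_⟩
  -- the common centralizer of the two axes is `P`
  set D := centralizer ({x} : Set G) ⊓ centralizer ({y} : Set G) with hD
  have hPD : (P : Subgroup G) ≤ D := fun v hv => mem_inf.2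
    ⟨mem_centralizer_singleton_iff.2 (H.mem_sylow_comm P hv hxP),
      mem_centralizer_singleton_iff.2 (H.mem_sylow_comm P hv hyP)⟩
  have hD9 : Nat.card D = 9 := by
    have hDM : D ≤ M := fun v hv => mem_normalizer_zpowers (by
      rw [mem_centralizer_singleton_iff.1 (mem_inf.1 hv).1, mul_inv_cancel_right]
      exact mem_zpowers x)
    have h9 : 9 ∣ Nat.card D := hP9 ▸ card_dvd_of_le hPD
    have hodd : ¬ 2 ∣ Nat.card D := fun h => by
      have : Fact (Nat.Prime 2) := ⟨Nat.prime_two⟩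
      obtain ⟨t, ht⟩ := exists_prime_orderOf_dvd_card' (G := D) 2 h
      have ht2 : orderOf (t : G) = 2 := by rw [Subgroup.orderOf_coe, ht]
      exact hyne (H.mem_of_comm hx ⟨ht2, mem_centralizer_singleton_iff.1 (mem_inf.1 t.2).1⟩ hyA.1
        (mem_centralizer_singleton_iff.1 (mem_inf.1 t.2).2))
    obtain ⟨j, hj⟩ := h9
    have hd : Nat.card D ∣ 72 := hM72 ▸ card_dvd_of_le hDM
    rw [hj] at hd hodd ⊢
    have hj8 : j ∣ 8 := (Nat.mul_dvd_mul_iff_left (by norm_num : 0 < 9)).1 hd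
    have := Nat.le_of_dvd (by norm_num) hj8
    interval_cases j <;> omega
  have hgP : g * x * g⁻¹ ∈ (P : Subgroup G) :=
    (eq_of_le_of_card_ge hPD (by rw [hD9, hP9])).ge
      (mem_inf.2 ⟨mem_centralizer_singleton_iff.2 hgx, mem_centralizer_singleton_iff.2 hgy⟩)
  obtain ⟨v, hv, he⟩ := P.conj_eq_normalizer_conj_of_mem x g⁻¹ hxP (by rwa [inv_inv])
  rw [inv_inv] at he
  have h1 := hline ⟨v⁻¹, inv_mem hv⟩
  simp only [inv_inv] at h1
  rw [← he] at h1
  rcases h1 with h | h | h | h <;> rw [h]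
  · exact Or.inl (mem_zpowers x)
  · exact Or.inl (inv_mem (mem_zpowers x))
  · exact Or.inr (mem_zpowers y)
  · exact Or.inr (inv_mem (mem_zpowers y))

end CfsgLib.Perm.Alt2520
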