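import Cfsg.Agent.Lib.Perm.Alt2520.Centralizers
import Cfsg.Agent.Lib.Perm.Alt2520.Eight
import Cfsg.Agent.Lib.Perm.ThreePrimeOrder.Five
import Cfsg.Agent.Lib.ZStar.Q8
import Cfsg.Agent.Lib.TwoGroups.DihedralFusion

/-!
# A simple group of order 2520 has dihedral Sylow subgroups for two
-/

set_option autoImplicit false

namespace CfsgLib.Perm.Alt2520

open Subgroup Cfsg CfsgLib.Char
open scoped Classical Pointwise

variable {G : Type*} [Group G] [Finite G] [IsSimpleGroup G] (H : Hyp G)

include H

theorem Hyp.card_sylow_two (S : Sylow 2 G) : Nat.card (S : Subgroup G) = 8 := by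
  simpa using CfsgLib.Perm.sylow_card_eq S (k := 3) (m := 315) (by rw [H.card]; norm_num) (by norm_num)

/-- The number of involutions times the part of the centralizer order. -/
theorem Hyp.card_involutions {t : G} (ht : orderOf t = 2)
    (hconj : ∀ a b : G, orderOf a = 2 → orderOf b = 2 → IsConj a b) :
    Nat.card {s : G // orderOf s = 2} * Nat.card (centralizer ({t} : Set G)) = 2520 := by
  have horb : MulAction.orbit (ConjAct G) t = {s : G | orderOf s = 2} := by
    ext s
    rw [MulAction.mem_orbit_iff]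
    constructor
    · rintro ⟨g, rfl⟩
      rw [ConjAct.smul_def]
      show orderOf _ = 2
      rw [← ht]
      exact (MulAut.conj (ConjAct.ofConjAct g)).orderOf_eq t
    · intro hs
      obtain ⟨g, hg⟩ := isConj_iff.1 (hconj t s ht hs)
      exact ⟨ConjAct.toConjAct g, hg⟩
  have h1 := MulAction.index_stabilizer (G := ConjAct G) (x := t)
  rw [horb] at h1
  have h2 := card_mul_index (MulAction.stabilizer (ConjAct G) t)
  rw [h1, show Nat.card (ConjAct G) = 2520 from H.card] at h2
  have h3 : Nat.card (MulAction.stabilizer (ConjAct G) t) = Nat.card (centralizer ({t} : Set G)) := by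
    refine Nat.card_congr (Equiv.subtypeEquiv ConjAct.ofConjAct.toEquiv fun g => ?_)
    show ConjAct.ofConjAct g * t * (ConjAct.ofConjAct g)⁻¹ = t ↔
      ConjAct.ofConjAct g ∈ centralizer ({t} : Set G)
    rw [mem_centralizer_singleton_iff, mul_inv_eq_iff_eq_mul]
  rw [h3] at h2
  rw [mul_comm]
  exact h2

/-- The Sylow subgroup is not elementary abelian. -/
theorem Hyp.false_of_elementary (S : Sylow 2 G) (hexp : ∀ s ∈ (S : Subgroup G), s * s = 1) : False := by
  have : Fact (Nat.Prime 2) := ⟨Nat.prime_two⟩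
  have hcomm : ∀ a ∈ (S : Subgroup G), ∀ b ∈ (S : Subgroup G), a * b = b * a := fun a ha b hb => by
    have hi : ∀ c ∈ (S : Subgroup G), c⁻¹ = c := fun c hc => inv_eq_of_mul_eq_one_right (hexp c hc)
    rw [← hi (a * b) (mul_mem ha hb), mul_inv_rev, hi a ha, hi b hb]
  have hS : IsMulCommutative (S : Subgroup G) :=
    ⟨⟨fun a b => Subtype.ext (hcomm a a.2 b b.2)⟩⟩
  have hS8 := H.card_sylow_two S
  have hord : ∀ (R : Sylow 2 G) (t : G), t ∈ (R : Subgroup G) → t ≠ 1 → orderOf t = 2 := by
    intro R t ht ht1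
    obtain ⟨c, rfl⟩ := MulAction.exists_smul_eq G S R
    rw [Sylow.coe_subgroup_smul, mem_smul_pointwise_iff_exists] at ht
    obtain ⟨u, hu, rfl⟩ := ht
    refine orderOf_eq_prime ?_ ht1
    show (c * u * c⁻¹) ^ 2 = 1
    rw [conj_pow, pow_two, hexp u hu]
    group
  set N := normalizer ((S : Subgroup G) : Set G) with hN
  letI act : MulAction N G := MulAction.compHom G (ConjAct.toConjAct.toMonoidHom.comp N.subtype)
  have hact : ∀ (n : N) (x : G), n • x = (n : G) * x * (n : G)⁻¹ := fun n x => rfl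
  have horb : ∀ a ∈ (S : Subgroup G), a ≠ 1 →
      Odd (MulAction.orbit N a).ncard ∧ 3 ≤ (MulAction.orbit N a).ncard ∧
        MulAction.orbit N a ⊆ {x : G | x ∈ (S : Subgroup G) ∧ x ≠ 1} := by
    intro a ha ha1
    have hle : (S : Subgroup G).subgroupOf N ≤ MulAction.stabilizer N a := by
      intro n hn
      rw [mem_subgroupOf] at hn
      rw [MulAction.mem_stabilizer_iff, hact, hcomm _ hn a ha, mul_inv_cancel_right]
    have h315 : (MulAction.orbit N a).ncard ∣ 315 := by
      rw [← MulAction.index_stabilizer]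
      refine (index_dvd_of_le hle).trans ((relIndex_dvd_index_of_le le_normalizer).trans ?_)
      have := card_mul_index (S : Subgroup G)
      rw [hS8, H.card] at this
      exact (show (S : Subgroup G).index = 315 by omega).dvd
    have h315odd : Odd (MulAction.orbit N a).ncard :=
      Odd.of_dvd_nat (by decide) h315
    refine ⟨h315odd, ?_, ?_⟩
    · obtain ⟨n, hn, hne⟩ := H.exists_not_fixed S hS ha ha1
      have h2 : 2 ≤ (MulAction.orbit N a).ncard :=
        (Set.one_lt_ncard_iff (Set.toFinite _)).2 ⟨a, n * a * n⁻¹, MulAction.mem_orbit_self a,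
          ⟨⟨n, hn⟩, rfl⟩, hne.symm⟩
      obtain ⟨k, hk⟩ := h315odd
      omega
    · rintro x ⟨n, rfl⟩
      exact ⟨(mem_normalizer_iff.1 n.2 a).1 ha, fun e => ha1 (conj_eq_one_iff.1 e)⟩
  have hseven : {x : G | x ∈ (S : Subgroup G) ∧ x ≠ 1}.ncard = 7 := by
    have h1 : {x : G | x ∈ (S : Subgroup G) ∧ x ≠ 1} = ((S : Subgroup G) : Set G) \ {1} :=
      Set.ext fun x => Iff.rfl
    rw [h1, Set.ncard_sdiff_singleton_of_mem (one_mem _), ← Nat.card_coe_set_eq]
    exact congrArg (fun k => k - 1) hS8
  -- one orbit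
  obtain ⟨z, hz, hz1⟩ : ∃ z ∈ (S : Subgroup G), z ≠ 1 := by
    have : Nontrivial (S : Subgroup G) := Finite.one_lt_card_iff_nontrivial.1 (by omega)
    obtain ⟨⟨z, hz⟩, hz1⟩ := exists_ne (1 : (S : Subgroup G))
    exact ⟨z, hz, fun e => hz1 (Subtype.ext e)⟩
  obtain ⟨hzodd, hz3, hzsub⟩ := horb z hz hz1
  have htrans : MulAction.orbit N z = {x : G | x ∈ (S : Subgroup G) ∧ x ≠ 1} := by
    refine Set.Subset.antisymm hzsub fun w hw => ?_
    by_contra hwz
    obtain ⟨hwodd, hw3, hwsub⟩ := horb w hw.1 hw.2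
    have hd : Disjoint (MulAction.orbit N z) (MulAction.orbit N w) := by
      rw [Set.disjoint_left]
      intro x hxz hxw
      exact hwz (by
        rw [← MulAction.orbit_eq_iff.2 hxz, MulAction.orbit_eq_iff.2 hxw]
        exact MulAction.mem_orbit_self w)
    have hsum := Set.ncard_union_eq hd
    have hle := Set.ncard_le_ncard (Set.union_subset hzsub hwsub)
    rw [hsum, hseven] at hle
    obtain ⟨i, hi⟩ := hzodd
    obtain ⟨j, hj⟩ := hwodd
    obtain ⟨u, hu, hu'⟩ : ∃ u ∈ {x : G | x ∈ (S : Subgroup G) ∧ x ≠ 1},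
        u ∉ MulAction.orbit N z ∪ MulAction.orbit N w := by
      by_contra hcon
      push Not at hcon
      have := Set.ncard_le_ncard hcon
      rw [hsum, hseven] at this
      omega
    obtain ⟨huodd, hu3, husub⟩ := horb u hu.1 hu.2
    have hd2 : Disjoint (MulAction.orbit N z ∪ MulAction.orbit N w) (MulAction.orbit N u) := by
      rw [Set.disjoint_left]
      intro x hx hxu
      rcases hx with hx | hx <;> refine hu' ?_
      · left; rw [← MulAction.orbit_eq_iff.2 hx, MulAction.orbit_eq_iff.2 hxu]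
        exact MulAction.mem_orbit_self u
      · right; rw [← MulAction.orbit_eq_iff.2 hx, MulAction.orbit_eq_iff.2 hxu]
        exact MulAction.mem_orbit_self u
    have hle2 := Set.ncard_le_ncard (Set.union_subset (Set.union_subset hzsub hwsub) husub)
    rw [Set.ncard_union_eq hd2, hsum, hseven] at hle2
    omega
  have hconjS : ∀ a ∈ (S : Subgroup G), a ≠ 1 → IsConj z a := fun a ha ha1 => by
    obtain ⟨n, hn⟩ := MulAction.mem_orbit_iff.1
      (show a ∈ MulAction.orbit N z by rw [htrans]; exact ⟨ha, ha1⟩)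
    exact isConj_iff.2 ⟨(n : G), (hact n z).symm.trans hn⟩
  have hconj : ∀ a b : G, orderOf a = 2 → orderOf b = 2 → IsConj a b := by
    have key : ∀ a : G, orderOf a = 2 → IsConj z a := by
      intro a ha
      obtain ⟨R, hR⟩ := (IsPGroup.of_card (n := 1) (by rw [Nat.card_zpowers, ha, pow_one]) :
        IsPGroup 2 (zpowers a)).exists_le_sylow
      obtain ⟨c, hc⟩ := MulAction.exists_smul_eq G S R
      have haR : a ∈ (R : Subgroup G) := hR (mem_zpowers a)
      rw [← hc, Sylow.coe_subgroup_smul, mem_smul_pointwise_iff_exists] at haR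
      obtain ⟨u, hu, rfl⟩ := haR
      refine (hconjS u hu fun e => ?_).trans (isConj_iff.2 ⟨c, rfl⟩)
      rw [e] at ha
      simp at ha
    exact fun a b ha hb => (key a ha).symm.trans (key b hb)
  -- the count
  have h7N : 7 ∣ (N.index * Nat.card N) / 360 ∧ 56 ∣ Nat.card N := by
    have h8 : 8 ∣ Nat.card N := hS8 ▸ card_dvd_of_le le_normalizer
    have h7 : 7 ∣ Nat.card N := by
      have h1 := MulAction.index_stabilizer (G := N) (x := z)
      rw [htrans, hseven] at h1
      exact h1 ▸ index_dvd_card _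
    exact ⟨by rw [mul_comm, card_mul_index, H.card], (show Nat.Coprime 8 7 by norm_num).mul_dvd_of_dvd_of_dvd h8 h7⟩
  have hn := CfsgLib.Perm.card_normalizer_mul_card_sylow S
  rw [← hN, H.card] at hn
  have hn2 : Nat.card (Sylow 2 G) ∣ 45 := by
    obtain ⟨m, hm⟩ := h7N.2
    rw [hm] at hn
    exact ⟨m, by
      have h1 : 56 * (m * Nat.card (Sylow 2 G)) = 56 * 45 := by rw [← mul_assoc, hn]
      rw [mul_comm]
      omega⟩
  have hn8 : 8 ≤ Nat.card (Sylow 2 G) := by
    rw [S.card_eq_index_normalizer]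
    refine H.eight_le_index (normalizer_ne_top (S.ne_bot_of_dvd_card (by rw [H.card]; norm_num)) fun h => ?_)
    have := congrArg (fun K : Subgroup G => Nat.card K) h
    simp only [hS8, card_top, H.card] at this
    omega
  have hzord : orderOf z = 2 := hord S z hz hz1
  obtain ⟨k, hk⟩ : 8 ∣ Nat.card (centralizer ({z} : Set G)) :=
    hS8 ▸ card_dvd_of_le fun x hx => mem_centralizer_singleton_iff.2 (hcomm x hx z hz)
  have hinv := H.card_involutions hzord hconj
  rw [hk] at hinv
  set n := Nat.card {s : G // orderOf s = 2} with hndef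
  have hnk : n * k = 315 := by
    have : 8 * (n * k) = 8 * 315 := by rw [mul_left_comm, hinv]
    omega
  have hk7 : ¬ 7 ∣ k := fun h => H.not_seven_dvd hzord (hk ▸ dvd_mul_of_dvd_right h 8)
  have hk45 : k ∣ 45 := by
    have : k ∣ 7 * 45 := ⟨n, by rw [mul_comm k n, hnk]⟩
    exact ((Nat.prime_seven.coprime_iff_not_dvd).2 hk7).symm.dvd_of_dvd_mul_left this
  have hk39 : k ≤ 39 := by
    have := H.card_centralizer_le hz1
    omega
  -- the fixed Sylow subgroups of an involution
  have := Fintype.ofFinite G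
  have := Fintype.ofFinite (Sylow 2 G)
  set fx : G → ℕ := fun t => (Finset.univ.filter fun R : Sylow 2 G => t ∈ (R : Subgroup G)).card with hfx
  have hfconst : ∀ t : G, orderOf t = 2 → fx t = fx z := by
    intro t ht
    obtain ⟨c, rfl⟩ := isConj_iff.1 (hconj z t hzord ht)
    refine Finset.card_bij' (fun R _ => c⁻¹ • R) (fun R _ => c • R) ?_ ?_
      (fun R _ => smul_inv_smul c R) (fun R _ => inv_smul_smul c R)
    · intro R hR
      simp only [Finset.mem_filter, Finset.mem_univ, true_and] at hR ⊢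
      rw [Sylow.coe_subgroup_smul, mem_smul_pointwise_iff_exists]
      refine ⟨_, hR, ?_⟩
      show c⁻¹ * (c * z * c⁻¹) * c⁻¹⁻¹ = z
      group
    · intro R hR
      simp only [Finset.mem_filter, Finset.mem_univ, true_and] at hR ⊢
      rw [Sylow.coe_subgroup_smul, mem_smul_pointwise_iff_exists]
      exact ⟨z, hR, rfl⟩
  have hcount : n * fx z = Nat.card (Sylow 2 G) * 7 := by
    have h1 : ∑ t ∈ (Finset.univ.filter fun t : G => orderOf t = 2), fx t = n * fx z := by
      rw [Finset.sum_congr rfl fun t ht => hfconst t (Finset.mem_filter.1 ht).2, Finset.sum_const,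
        smul_eq_mul, hndef, Nat.card_eq_fintype_card, Fintype.card_subtype]
    have h2 : ∀ R : Sylow 2 G,
        ((Finset.univ.filter fun t : G => orderOf t = 2).filter fun t => t ∈ (R : Subgroup G)).card = 7 := by
      intro R
      rw [show ((Finset.univ.filter fun t : G => orderOf t = 2).filter fun t => t ∈ (R : Subgroup G)) =
        (Finset.univ.filter fun t : G => t ∈ (R : Subgroup G)).erase 1 from ?_]
      · rw [Finset.card_erase_of_mem (by simp), ← Fintype.card_subtype, ← Nat.card_eq_fintype_card,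
          H.card_sylow_two R]
      · ext t
        simp only [Finset.mem_filter, Finset.mem_univ, true_and, Finset.mem_erase]
        exact ⟨fun h => ⟨fun e => by rw [e, orderOf_one] at h; omega, h.2⟩,
          fun h => ⟨hord R t h.2 h.1, h.2⟩⟩
    rw [← h1]
    simp only [hfx, Finset.card_filter]
    rw [Finset.sum_comm]
    simp only [← Finset.card_filter]
    rw [Finset.sum_congr rfl fun R _ => h2 R, Finset.sum_const, smul_eq_mul, Finset.card_univ,
      Nat.card_eq_fintype_card]
  have hburn : 8 ∣ Nat.card (Sylow 2 G) + 7 * fx z := by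
    have := Fintype.ofFinite (S : Subgroup G)
    have := Fintype.ofFinite (Quotient (MulAction.orbitRel (S : Subgroup G) (Sylow 2 G)))
    have h := MulAction.sum_card_fixedBy_eq_card_orbits_mul_card_group (S : Subgroup G) (Sylow 2 G)
    rw [← Nat.card_eq_fintype_card (α := (S : Subgroup G)), hS8,
      ← Finset.add_sum_erase _ _ (Finset.mem_univ (1 : (S : Subgroup G)))] at h
    have hone : Fintype.card (MulAction.fixedBy (Sylow 2 G) (1 : (S : Subgroup G))) =
        Nat.card (Sylow 2 G) := by
      rw [Nat.card_eq_fintype_card, Fintype.card_congr (Equiv.setCongr (MulAction.fixedBy_one_eq_univ _ _))]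
      exact Fintype.card_setUniv
    have hother : ∀ s ∈ (Finset.univ : Finset (S : Subgroup G)).erase 1,
        Fintype.card (MulAction.fixedBy (Sylow 2 G) s) = fx z := by
      intro s hs
      have hs1 : (s : G) ≠ 1 := fun e => (Finset.mem_erase.1 hs).1 (Subtype.ext e)
      have hs2 := hord S s s.2 hs1
      rw [← hfconst _ hs2, hfx, Fintype.card_subtype]
      refine congrArg Finset.card (Finset.filter_congr fun R _ => ?_)
      show (s : G) • R = R ↔ (s : G) ∈ (R : Subgroup G)
      constructor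
      · intro hfix
        rw [Sylow.smul_eq_iff_mem_normalizer] at hfix
        have hz' : IsPGroup 2 (zpowers (s : G)) :=
          IsPGroup.of_card (n := 1) (by rw [Nat.card_zpowers, hs2, pow_one])
        have h2 : (s : G) ∈ zpowers (s : G) ⊓ (R : Subgroup G) := by
          rw [← hz'.inf_normalizer_sylow R]
          exact ⟨mem_zpowers _, hfix⟩
        exact h2.2
      · exact fun hmem => CfsgLib.Perm.smul_eq_of_mem hmem
    rw [hone, Finset.sum_congr rfl hother, Finset.sum_const, Finset.card_erase_of_mem (Finset.mem_univ _),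
      Finset.card_univ, ← Nat.card_eq_fintype_card (α := (S : Subgroup G)), hS8, smul_eq_mul] at h
    exact Dvd.intro_left _ h.symm
  -- arithmetic
  have hf45 : 45 * fx z = Nat.card (Sylow 2 G) * k := by
    have : 7 * (45 * fx z) = 7 * (Nat.card (Sylow 2 G) * k) := by
      calc 7 * (45 * fx z) = (n * k) * fx z := by rw [hnk]; ring
        _ = k * (n * fx z) := by ring
        _ = _ := by rw [hcount]; ring
    omega
  have hk5 : k = 5 := by
    have hkm : k ∈ (45 : ℕ).divisors := Nat.mem_divisors.2 ⟨hk45, by norm_num⟩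
    have hnm : Nat.card (Sylow 2 G) ∈ (45 : ℕ).divisors := Nat.mem_divisors.2 ⟨hn2, by norm_num⟩
    rw [show (45 : ℕ).divisors = ({1, 3, 5, 9, 15, 45} : Finset ℕ) from by decide +kernel] at hkm hnm
    simp only [Finset.mem_insert, Finset.mem_singleton] at hkm hnm
    generalize fx z = f at hburn hf45
    generalize Nat.card (Sylow 2 G) = nn at hburn hf45 hn8 hnm
    rcases hkm with rfl | rfl | rfl | rfl | rfl | rfl <;>
      rcases hnm with rfl | rfl | rfl | rfl | rfl | rfl <;> omega
  subst hk5
  have : Fact (Nat.Prime 5) := ⟨by norm_num⟩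
  set C := centralizer ({z} : Set G) with hC
  obtain ⟨T⟩ := (inferInstance : Nonempty (Sylow 5 C))
  have hT : Nat.card (T : Subgroup C) = 5 := by
    simpa using CfsgLib.Perm.sylow_card_eq T (k := 1) (m := 8) (by rw [hk]; norm_num) (by norm_num)
  have hT1 : Nat.card (Sylow 5 C) = 1 := by
    have h1 := CfsgLib.Perm.card_sylow_dvd_of_card_eq (G := C) (p := 5) (k := 1) (m := 8)
      (by rw [hk]; norm_num)
    have hmod : Nat.card (Sylow 5 C) % 5 = 1 := by
      have h0 := card_sylow_modEq_one 5 C
      rwa [Nat.ModEq, Nat.one_mod] at h0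
    have := Nat.le_of_dvd (by norm_num) h1
    generalize Nat.card (Sylow 5 C) = q at h1 hmod this
    interval_cases q <;> omega
  have hTn : (T : Subgroup C).Normal := by
    have : Subsingleton (Sylow 5 C) := (Nat.card_eq_one_iff_unique.1 hT1).1
    exact T.normal_of_subsingleton
  refine H.false_of_five hconj (fun R K hK x hx => ?_) hzord (by rw [← hC, hk]; norm_num)
    (U := (T : Subgroup C).map C.subtype) ?_ (map_subtype_le _) ?_
  · by_cases hx1 : x = 1
    · rw [hx1]; exact one_mem K
    · exact hK x hx (hord R x hx hx1)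
  · rw [card_map_of_injective C.subtype_injective, hT]
  · rw [← hC, le_normalizer_iff]
    rintro g hg _ ⟨u, hu, rfl⟩
    exact ⟨⟨g, hg⟩ * u * ⟨g, hg⟩⁻¹, hTn.conj_mem u hu ⟨g, hg⟩, rfl⟩

/-- The Sylow subgroup is dihedral. -/
theorem Hyp.sylow_dihedral (S : Sylow 2 G) :
    Nonempty ((S : Subgroup G) ≃* DihedralGroup 4) := by
  have : Fact (Nat.Prime 2) := ⟨Nat.prime_two⟩
  have hS8 := H.card_sylow_two S
  rcases eight_cases hS8 with hc | hd | ⟨⟨e⟩⟩
  · exfalso
    have hS : IsMulCommutative (S : Subgroup G) := ⟨⟨hc⟩⟩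
    by_cases hexp : ∀ s ∈ (S : Subgroup G), s * s = 1
    · exact H.false_of_elementary S hexp
    push Not at hexp
    obtain ⟨a, ha, ha2⟩ := hexp
    -- an element of order four
    obtain ⟨b, hb4, hb2⟩ : ∃ b : (S : Subgroup G), b ^ 4 = 1 ∧ b * b ≠ 1 := by
      set a' : (S : Subgroup G) := ⟨a, ha⟩
      have h8 : a' ^ 8 = 1 := hS8 ▸ pow_card_eq_one'
      by_cases h4 : a' ^ 4 = 1
      · exact ⟨a', h4, fun e => ha2 (congrArg Subtype.val e)⟩
      · exact ⟨a' ^ 2, by rw [← pow_mul, h8], fun e => h4 (by rw [← e]; simp [pow_succ, mul_assoc])⟩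
    obtain ⟨n, hn, hne⟩ := H.exists_not_fixed S hS (b * b).2 fun e => hb2 (Subtype.ext e)
    set b' : (S : Subgroup G) := ⟨n * b * n⁻¹, (mem_normalizer_iff.1 hn b).1 b.2⟩ with hb'
    have hbb : (b : G) * b = ((b * b : (S : Subgroup G)) : G) := rfl
    have h1 := square_unique hS8 hc hb4 (b := b') (Subtype.ext (by
      show (n * (b : G) * n⁻¹) ^ 4 = 1
      rw [conj_pow, show (b : G) ^ 4 = 1 from congrArg Subtype.val hb4]; group)) hb2 (fun e => hb2 (Subtype.ext (by
      have e' : n * (b : G) * n⁻¹ * (n * (b : G) * n⁻¹) = 1 := congrArg Subtype.val e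
      rw [conj_mul] at e'
      exact conj_eq_one_iff.1 e')))
    refine hne ?_
    show n * ((b : G) * b) * n⁻¹ = (b : G) * b
    rw [← conj_mul]
    exact (congrArg Subtype.val h1).symm
  · exact hd
  · exfalso
    have := Fintype.ofFinite G
    obtain ⟨χ, hne, hχ⟩ := CfsgLib.ZStar.q8_exists_ker S e
      (CfsgLib.Perm.ThreePrimeOrder.perfect_of_nc H.nc)
    rcases (CfsgLib.CharDegree.kerSubgroup_normal χ).eq_bot_or_eq_top with h | h
    · have h1 := (CfsgLib.CharDegree.kerSubgroup_eq_bot_iff.1 h) _ hχ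
      have h2 : e.symm (.a 2) = 1 := Subtype.ext h1
      rw [← map_one e.symm] at h2
      exact absurd (e.symm.injective h2) (by decide)
    · have hall : ∀ g : G, (χ : G → ℂ) g = (χ : G → ℂ) 1 := fun g =>
        CfsgLib.CharDegree.mem_kerSubgroup.1 (h ▸ Subgroup.mem_top g)
      have hsum := CfsgLib.Char.classInner_irr_of_ne (χ := χ) (ψ := trivChar G) hne
      simp only [Cfsg.classInner, CfsgLib.Char.trivChar_apply, map_one, mul_one, hall, Finset.sum_const,
        Finset.card_univ, nsmul_eq_mul] at hsum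
      rw [mul_eq_zero, mul_eq_zero, inv_eq_zero] at hsum
      rcases hsum with e | e | e
      · exact Nat.cast_ne_zero.2 Nat.card_pos.ne' e
      · exact Nat.cast_ne_zero.2 Fintype.card_pos.ne' e
      · exact IsIrr.apply_one_ne_zero χ.2 e

theorem Hyp.exists_model (S : Sylow 2 G) :
    ∃ f : DihedralGroup (2 ^ 2) →* G, Function.Injective f ∧ f.range = (S : Subgroup G) := by
  obtain ⟨e⟩ := H.sylow_dihedral S
  obtain ⟨n, f, hn, hc, hf, hr⟩ := CfsgLib.TwoGroups.Dihedral.exists_model (m := 4) (by norm_num) e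
  have h8 := H.card_sylow_two S
  obtain rfl : n = 2 := by
    have h1 : (2 : ℕ) ^ (n + 1) = 2 ^ 3 := by rw [← hc]; exact h8
    have := Nat.pow_right_injective le_rfl h1
    omega
  exact ⟨f, hf, hr⟩

theorem Hyp.no_index_two (K : Subgroup G) : K.index ≠ 2 := by
  intro h
  have := H.eight_le_index (K := K) fun e => by rw [e, index_top] at h; omega
  omega

/-- All involutions are conjugate. -/
theorem Hyp.all_conj (a b : G) (ha : orderOf a = 2) (hb : orderOf b = 2) : IsConj a b := by
  obtain ⟨S⟩ := (inferInstance : Nonempty (Sylow 2 G))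
  obtain ⟨f, hf, hr⟩ := H.exists_model S
  exact CfsgLib.TwoGroups.Dihedral.all_conj_of_no_index_two hf hr (by norm_num) H.no_index_two a b ha hb

/-- A Sylow subgroup is generated by its involutions. -/
theorem Hyp.gen_involutions (S : Sylow 2 G) (K : Subgroup G)
    (hK : ∀ s ∈ (S : Subgroup G), orderOf s = 2 → s ∈ K) : (S : Subgroup G) ≤ K := by
  obtain ⟨f, hf, hr⟩ := H.exists_model S
  have hsr : ∀ i, f (DihedralGroup.sr i) ∈ K := fun i =>
    hK _ (hr ▸ ⟨_, rfl⟩) (by rw [orderOf_injective f hf, DihedralGroup.orderOf_sr])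
  intro x hx
  rw [← hr] at hx
  obtain ⟨d, rfl⟩ := hx
  rcases d with i | i
  · have := mul_mem (hsr 0) (hsr i)
    rwa [← map_mul, DihedralGroup.sr_mul_sr, sub_zero] at this
  · exact hsr i

end CfsgLib.Perm.Alt2520
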